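import Groth.Agent.H14.CohBC.PushMap
import Groth.Agent.H14.GenFam.HomBC
import Groth.Agent.H14.GenFam.Funct
import Groth.Agent.H14.CohDesc.Core

/-!
Transfer of lifting along an object mapping to two objects, affinely to one of them.
-/

set_option autoImplicit false
set_option backward.isDefEq.respectTransparency false
set_option backward.isDefEq.respectTransparency.types false
set_option linter.style.haveILetI false

universe u

open CategoryTheory CategoryTheory.Limits AlgebraicGeometry Opposite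
open StMod (sch bmap fibCat fibFst baseOver)
open Groth.Agent.Lib Groth.Agent.Lib.AlgStack
open Groth.Agent.H14.ModDesc
open Groth.Agent.H14.AffPush
open FibCat (IsFibGrpd)
open Groth.Agent.H14.GenFam (baseFun resFun exists_beta_cat beta_ext isFibGrpd_fibCat Cover isAffine_up)

namespace Groth.Agent.H14.CohBC

variable {S : Scheme.{u}}

/-- Compatible families lift along surjections. -/
def Lifts (𝒳 : AlgSt.Cat S) : Prop :=
  ∀ ⦃F G : StMod.QCoh 𝒳⦄ (u : F ⟶ G), StMod.Mod.IsSurj u.hom →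
    ∀ t : ∀ o : 𝒳.obj, Γ(G.obj.obj o, ⊤), (∀ {o' o : 𝒳.obj} (k : o' ⟶ o), G.obj.mapTop k (t o) = t o') →
      ∃ s : ∀ o : 𝒳.obj, Γ(F.obj.obj o, ⊤),
        (∀ {o' o : 𝒳.obj} (k : o' ⟶ o), F.obj.mapTop k (s o) = s o') ∧ ∀ o, (u.hom.app o).app ⊤ (s o) = t o

theorem isSurj_comap {𝒳 𝒵 : AlgSt.Cat S} (θ : 𝒵 ⥤ᵇ 𝒳) {F G : StMod.QCoh 𝒳} (u : F ⟶ G)
    (hu : StMod.Mod.IsSurj u.hom) : StMod.Mod.IsSurj ((StMod.comapQ θ).map u).hom := fun o ho z => by
  haveI : IsAffine (sch 𝒳 (θ.obj o)) := by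
    rw [StMod.sch_obj_eq θ o]
    exact ho
  obtain ⟨z', rfl⟩ := (castTop_bijective (StMod.sch_obj_eq θ o) _).surjective z
  obtain ⟨w, rfl⟩ := hu (θ.obj o) inferInstance z'
  exact ⟨castTop (StMod.sch_obj_eq θ o) _ w, castTop_castHom _ _ _⟩

section Push

variable {X Z : Over S} {𝒳 : AlgSt.Cat S} {π : 𝒳 ⥤ᵇ AlgSt.ofSch X} {g : Z ⟶ X} [IsAffineHom g.left]
  (hfib : FibCat.IsFibGrpd 𝒳.p) {F : StMod.QCoh (cat π g)}

/-- The value at an object of a section of the direct image. -/
noncomputable def atObj (s : ∀ x : 𝒳.obj, Γ(F.obj.obj (up hfib x), ⊤)) (o : (cat π g).obj) :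
    Γ(F.obj.obj o, ⊤) :=
  F.obj.mapTop (upLift (x := o.obj.left) hfib (𝟙 o.obj.left)) (s o.obj.left)

omit [IsAffineHom g.left] in
theorem atObj_natural (s : ∀ x : 𝒳.obj, Γ(F.obj.obj (up hfib x), ⊤))
    (hs : ∀ {x' x : 𝒳.obj} (φ : x' ⟶ x), F.obj.mapTop (upMap hfib φ) (s x) = s x')
    {o' o : (cat π g).obj} (k : o' ⟶ o) : F.obj.mapTop k (atObj hfib s o) = atObj hfib s o' := by
  rw [atObj, atObj, ← StMod.Mod.mapTop_comp, ← hs k.hom.left, ← StMod.Mod.mapTop_comp]
  refine congrArg (fun q : o' ⟶ up hfib o.obj.left => F.obj.mapTop q (s o.obj.left)) (up_hom_ext hfib ?_)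
  show (k.hom.left ≫ (upLift hfib (𝟙 o.obj.left)).hom.left) ≫ eps hfib o.obj.left =
    ((upLift hfib (𝟙 o'.obj.left)).hom.left ≫ (upMap hfib k.hom.left).hom.left) ≫ eps hfib o.obj.left
  simp only [Category.assoc]
  rw [upLift_eps, upMap_eps, ← Category.assoc, upLift_eps, Category.comp_id, Category.id_comp]

set_option maxHeartbeats 800000 in
include hfib in
/-- Lifting passes to the restriction to an affine scheme over the base. -/
theorem lifts_cat [IsAffine Z.left] (h : Lifts 𝒳) : Lifts (cat π g) := by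
  intro F G u hu t ht
  obtain ⟨v, hv⟩ := exists_pushMap hfib u
  obtain ⟨s₁, hs₁, hus₁⟩ := h v (isSurj_pushMap hfib u hu v hv)
    (fun o => show Γ((pushQ hfib G).obj.obj o, ⊤) from t (up hfib o))
    fun {o' o} k => (mapTop_push hfib G k _).trans (ht _)
  let s : ∀ x : 𝒳.obj, Γ(F.obj.obj (up hfib x), ⊤) := fun x => s₁ x
  have hs : ∀ {x' x : 𝒳.obj} (φ : x' ⟶ x), F.obj.mapTop (upMap hfib φ) (s x) = s x' := fun φ =>
    (mapTop_push hfib F φ _).symm.trans (hs₁ φ)
  refine ⟨fun o => atObj hfib s o, fun {o' o} k => atObj_natural hfib s hs k, fun o => ?_⟩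
  refine CohDesc.sect_ext (isFibGrpd_cat hfib) G fun o' k ho' => ?_
  rw [StMod.Mod.mapTop_app, atObj_natural hfib s hs k, ht k]
  show (u.hom.app o').app ⊤ (F.obj.mapTop _ _) = t o'
  rw [← StMod.Mod.mapTop_app]
  refine Eq.trans (congrArg (G.obj.mapTop (upLift (x := o'.obj.left) hfib (𝟙 o'.obj.left))) ?_)
    (ht (upLift (x := o'.obj.left) hfib (𝟙 o'.obj.left)))
  exact (hv o'.obj.left ho' _).symm.trans (hus₁ o'.obj.left)

end Push

variable {𝒳 𝒴 : AlgSt.Cat S}

variable (f : 𝒳 ⥤ᵇ 𝒴) (hY : IsFibGrpd 𝒴.p) {ω η η₁ : 𝒴.obj} (c : ω ⟶ η) (d : ω ⟶ η₁)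

/-- The map to the smaller object. -/
noncomputable def beta (o : (cat (baseFun f η₁) (𝒴.p.map d)).obj) : f.obj o.obj.left.left ⟶ ω :=
  (exists_beta_cat hY d o).choose

theorem beta_spec (o : (cat (baseFun f η₁) (𝒴.p.map d)).obj) :
    beta f hY d o ≫ d = o.obj.left.hom ∧ baseOver f o.obj.left.left (beta f hY d o) = o.obj.hom :=
  (exists_beta_cat hY d o).choose_spec

theorem beta_natural {o' o : (cat (baseFun f η₁) (𝒴.p.map d)).obj} (k : o' ⟶ o) :
    f.map k.hom.left.left ≫ beta f hY d o = beta f hY d o' := by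
  refine beta_ext hY d ?_ ?_
  · rw [Category.assoc, (beta_spec f hY d o).1, (beta_spec f hY d o').1]
    exact CostructuredArrow.w k.hom.left
  · rw [← StMod.map_comp_baseOver, (beta_spec f hY d o).2, (beta_spec f hY d o').2]
    exact CostructuredArrow.w k.hom

/-- The functor to the category over the other object. -/
noncomputable def theta : cat (baseFun f η₁) (𝒴.p.map d) ⥤ᵇ fibCat f η where
  toFunctor :=
    { obj := fun o => CostructuredArrow.mk (beta f hY d o ≫ c)
      map := fun {o' o} k => CostructuredArrow.homMk k.hom.left.left (by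
        show f.map k.hom.left.left ≫ beta f hY d o ≫ c = beta f hY d o' ≫ c
        rw [← Category.assoc, beta_natural])
      map_id := fun _ => CostructuredArrow.hom_ext _ _ rfl
      map_comp := fun _ _ => CostructuredArrow.hom_ext _ _ rfl }
  w := rfl

theorem theta_mapTop (F : StMod.Mod (fibCat f η)) {o' o : (cat (baseFun f η₁) (𝒴.p.map d)).obj} (k : o' ⟶ o)
    (z : Γ(F.obj ((theta f hY c d).obj o), ⊤)) :
    (StMod.Mod.comap (theta f hY c d) F).mapTop k z = F.mapTop ((theta f hY c d).map k) z :=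
  mapTop_comap (theta f hY c d) F k z

/-- The corresponding object over the second object. -/
noncomputable def other (o : (cat (baseFun f η) (𝒴.p.map c)).obj) : (cat (baseFun f η₁) (𝒴.p.map d)).obj :=
  (resFun f d).obj (CostructuredArrow.mk (beta f hY c o))

theorem beta_other (o : (cat (baseFun f η) (𝒴.p.map c)).obj) : beta f hY d (other f hY c d o) = beta f hY c o :=
  beta_ext hY d (beta_spec f hY d (other f hY c d o)).1 (beta_spec f hY d (other f hY c d o)).2

/-- The comparison of the two objects. -/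
noncomputable def kap (o : (cat (baseFun f η) (𝒴.p.map c)).obj) :
    o.obj.left ⟶ (theta f hY c d).obj (other f hY c d o) :=
  CostructuredArrow.homMk (𝟙 o.obj.left.left) (by
    show f.map (𝟙 o.obj.left.left) ≫ beta f hY d (other f hY c d o) ≫ c = o.obj.left.hom
    rw [beta_other, (beta_spec f hY c o).1, f.toFunctor.map_id]
    exact Category.id_comp _)

/-- The corresponding morphism. -/
noncomputable def otherMap {o' o : (cat (baseFun f η) (𝒴.p.map c)).obj} (k : o' ⟶ o) :
    other f hY c d o' ⟶ other f hY c d o :=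
  (resFun f d).map (CostructuredArrow.homMk k.hom.left.left (beta_natural f hY c k))

theorem kap_natural {o' o : (cat (baseFun f η) (𝒴.p.map c)).obj} (k : o' ⟶ o) :
    k.hom.left ≫ kap f hY c d o = kap f hY c d o' ≫ (theta f hY c d).map (otherMap f hY c d k) :=
  CostructuredArrow.hom_ext _ _ (by
    show k.hom.left.left ≫ 𝟙 o.obj.left.left = 𝟙 o'.obj.left.left ≫ k.hom.left.left
    rw [Category.comp_id, Category.id_comp])

set_option maxHeartbeats 800000 in
include hY in
/-- Lifts over one object give lifts over the intersection in the other. -/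
theorem exists_lift_member (hX : IsFibGrpd 𝒳.p) [IsAffineHom (𝒴.p.map d).left] (hω : IsAffine (sch 𝒴 ω))
    (h₁ : Lifts (fibCat f η₁)) {F G : StMod.QCoh (fibCat f η)} (u : F ⟶ G) (hu : StMod.Mod.IsSurj u.hom)
    (t : ∀ o : (fibCat f η).obj, Γ(G.obj.obj o, ⊤))
    (ht : ∀ {o' o : (fibCat f η).obj} (k : o' ⟶ o), G.obj.mapTop k (t o) = t o') :
    ∃ s : ∀ o : (cat (baseFun f η) (𝒴.p.map c)).obj, Γ(F.obj.obj o.obj.left, ⊤),
      (∀ (o' o : (cat (baseFun f η) (𝒴.p.map c)).obj) (k : o' ⟶ o), F.obj.mapTop k.hom.left (s o) = s o') ∧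
      ∀ o : (cat (baseFun f η) (𝒴.p.map c)).obj, (u.hom.app o.obj.left).app ⊤ (s o) = t o.obj.left := by
  haveI : IsAffine (𝒴.p.obj ω).left := hω
  obtain ⟨sW, hsW, husW⟩ := lifts_cat (π := baseFun f η₁) (g := 𝒴.p.map d) (isFibGrpd_fibCat hX f η₁) h₁
    ((StMod.comapQ (theta f hY c d)).map u) (isSurj_comap _ u hu)
    (fun o => show Γ(((StMod.comapQ (theta f hY c d)).obj G).obj.obj o, ⊤) from t ((theta f hY c d).obj o))
    fun {o' o} k => (theta_mapTop f hY c d G.obj k _).trans (ht _)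
  let z : ∀ o : (cat (baseFun f η) (𝒴.p.map c)).obj, Γ(F.obj.obj ((theta f hY c d).obj (other f hY c d o)), ⊤) :=
    fun o => sW (other f hY c d o)
  refine ⟨fun o => F.obj.mapTop (kap f hY c d o) (z o), fun o' o k => ?_, fun o => ?_⟩
  · have e : F.obj.mapTop ((theta f hY c d).map (otherMap f hY c d k)) (z o) = z o' :=
      (theta_mapTop f hY c d F.obj (otherMap f hY c d k) (z o)).symm.trans (hsW (otherMap f hY c d k))
    rw [← StMod.Mod.mapTop_comp, kap_natural, StMod.Mod.mapTop_comp, e]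
  · rw [← StMod.Mod.mapTop_app]
    refine Eq.trans (congrArg (G.obj.mapTop (kap f hY c d o)) ?_) (ht (kap f hY c d o))
    exact husW (other f hY c d o)

end Groth.Agent.H14.CohBC
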