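import Groth.Agent.H14.CohBC.Affine
import Groth.Agent.H14.CohDesc.Descend

/-!
Cohomological affinity is stable under base change between algebraic spaces.
-/

set_option autoImplicit false
set_option backward.isDefEq.respectTransparency false
set_option backward.isDefEq.respectTransparency.types false
set_option linter.style.haveILetI false

universe u

open CategoryTheory CategoryTheory.Limits AlgebraicGeometry Opposite
open StMod (sch bmap fibCat fibFst etaOf baseOver)
open Groth.Agent.Lib Groth.Agent.Lib.AlgStack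
open Groth.Agent.H14.ModDesc
open FibCat (IsFibGrpd fp fpFst fpSnd)
open AlgSt (ofSp ofSpMap IsAlgStack)
open Groth.Agent.H14.CohDesc (map_map)

namespace Groth.Agent.H14.CohBC

variable {S : Scheme.{u}} {𝒳 : AlgSt.Cat S} {M M' : AlgSp.Sp S} (g : M' ⟶ M) (π : 𝒳 ⥤ᵇ ofSp M)
  (η' : (ofSp M').obj)

/-- The object of the target under an object of the new target. -/
noncomputable abbrev imgObj : (ofSp M).obj := (ofSpMap g).obj η'

variable (o : (fibCat π (imgObj g η')).obj)

/-- The first component. -/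
noncomputable def liftBase : (ofSp M').obj :=
  ⟨𝒳.p.obj o.left, M'.obj.map (show 𝒳.p.obj o.left ⟶ η'.base from baseOver π o.left o.hom).op η'.sec⟩

/-- Its morphism to the object. -/
noncomputable def liftArr : liftBase g π η' o ⟶ η' := ⟨baseOver π o.left o.hom, rfl⟩

theorem lift_sec : M.obj.map (eqToHom (π.w_obj o.left).symm).op (π.obj o.left).sec =
    g.hom.app _ (liftBase g π η' o).sec := by
  have e : g.hom.app _ (liftBase g π η' o).sec = M.obj.map (baseOver π o.left o.hom).op (g.hom.app _ η'.sec) :=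
    NatTrans.naturality_apply g.hom (show 𝒳.p.obj o.left ⟶ η'.base from baseOver π o.left o.hom).op η'.sec
  rw [e, ← o.hom.map_sec]
  erw [map_map M]
  rfl

/-- The morphism relating the components. -/
noncomputable def liftHom : (ofSpMap g).obj (liftBase g π η' o) ⟶ π.obj o.left :=
  ⟨eqToHom (π.w_obj o.left).symm, lift_sec g π η' o⟩

/-- The inverse. -/
noncomputable def liftInv : π.obj o.left ⟶ (ofSpMap g).obj (liftBase g π η' o) :=
  ⟨eqToHom (π.w_obj o.left), by
    refine Eq.trans (congrArg (M.obj.map (eqToHom (π.w_obj o.left)).op) (lift_sec g π η' o).symm) ?_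
    erw [map_map M]
    simp⟩

/-- The object of the 2-fibre product. -/
noncomputable def liftObj : (fp (ofSpMap g) π).obj :=
  ⟨{ fst := liftBase g π η' o
     snd := o.left
     iso :=
      { hom := liftHom g π η' o
        inv := liftInv g π η' o
        hom_inv_id := Stk.EltObj.hom_ext (by simp [liftHom, liftInv])
        inv_hom_id := Stk.EltObj.hom_ext (by simp [liftHom, liftInv]) } },
   IsHomLift.of_fac' (ofSp M).p _ _ rfl (π.w_obj _) (by
     show eqToHom (π.w_obj o.left).symm = _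
     simp)⟩

variable {o' : (fibCat π (imgObj g η')).obj} (f : o' ⟶ o)

/-- The morphism of first components. -/
noncomputable def liftBaseMap : liftBase g π η' o' ⟶ liftBase g π η' o :=
  ⟨𝒳.p.map f.left, by
    show M'.obj.map _ (M'.obj.map _ _) = M'.obj.map _ _
    erw [map_map M']
    exact congrArg (fun k : 𝒳.p.obj o'.left ⟶ η'.base => M'.obj.map k.op η'.sec)
      ((StMod.map_comp_baseOver π f.left o.hom).trans (congrArg (baseOver π o'.left) (CostructuredArrow.w f)))⟩

/-- The morphism of the 2-fibre product. -/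
noncomputable def liftMap : liftObj g π η' o' ⟶ liftObj g π η' o :=
  ObjectProperty.homMk
    { fst := liftBaseMap g π η' o f
      snd := f.left
      w := Stk.EltObj.hom_ext (by
        show 𝒳.p.map f.left ≫ eqToHom (π.w_obj o.left).symm =
          eqToHom (π.w_obj o'.left).symm ≫ (ofSp M).p.map (π.map f.left)
        haveI : 𝒳.p.IsHomLift (𝒳.p.map f.left) f.left := IsHomLift.map 𝒳.p _
        haveI := BasedFunctor.preserves_isHomLift π (𝒳.p.map f.left) f.left
        rw [IsHomLift.fac' (ofSp M).p (𝒳.p.map f.left) (π.map f.left)]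
        simp) }

omit o o' f

/-- The category over the object of the target into the 2-fibre product. -/
noncomputable def liftFun : fibCat π (imgObj g η') ⥤ᵇ fp (ofSpMap g) π where
  toFunctor :=
    { obj := liftObj g π η'
      map := fun {o' o} f => liftMap g π η' o f
      map_id := fun o => ObjectProperty.hom_ext _ (CategoricalPullback.hom_ext
        (Stk.EltObj.hom_ext (𝒳.p.map_id o.left)) rfl)
      map_comp := fun {o'' o' o} f f' => ObjectProperty.hom_ext _ (CategoricalPullback.hom_ext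
        (Stk.EltObj.hom_ext (𝒳.p.map_comp f.left f'.left)) rfl) }
  w := rfl

variable {η'}

/-- The object of the category over the object of the target attached to an object over the object. -/
noncomputable def overObj (P : (fp (ofSpMap g) π).obj) (α : P.obj.fst ⟶ η') : (fibCat π (imgObj g η')).obj :=
  CostructuredArrow.mk (P.obj.iso.inv ≫ (ofSpMap g).map α)

/-- The comparison of first components. -/
noncomputable def cmpBase (P : (fp (ofSpMap g) π).obj) (α : P.obj.fst ⟶ η') :
    P.obj.fst ⟶ liftBase g π η' (overObj g π P α) :=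
  ⟨P.obj.iso.hom.hom ≫ eqToHom (π.w_obj P.obj.snd), by
    show M'.obj.map _ (M'.obj.map _ _) = P.obj.fst.sec
    erw [map_map M']
    rw [← α.map_sec]
    refine congrArg (fun k : P.obj.fst.base ⟶ η'.base => M'.obj.map k.op η'.sec) ?_
    show (P.obj.iso.hom.hom ≫ eqToHom (π.w_obj P.obj.snd)) ≫ eqToHom (π.w_obj P.obj.snd).symm ≫
      (P.obj.iso.inv.hom ≫ α.hom) = α.hom
    have h : P.obj.iso.hom.hom ≫ P.obj.iso.inv.hom = 𝟙 _ := congrArg Stk.EltObj.Hom.hom P.obj.iso.hom_inv_id
    simp [reassoc_of% h]⟩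

/-- The comparison. -/
noncomputable def cmp (P : (fp (ofSpMap g) π).obj) (α : P.obj.fst ⟶ η') :
    P ⟶ (liftFun g π η').obj (overObj g π P α) :=
  ObjectProperty.homMk
    { fst := cmpBase g π P α
      snd := 𝟙 P.obj.snd
      w := Stk.EltObj.hom_ext (by
        show (P.obj.iso.hom.hom ≫ eqToHom (π.w_obj P.obj.snd)) ≫ eqToHom (π.w_obj P.obj.snd).symm =
          P.obj.iso.hom.hom ≫ (π.map (𝟙 P.obj.snd)).hom
        rw [π.toFunctor.map_id]
        exact (Category.assoc _ _ _).trans (by simp)) }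

/-- The morphism of objects over the object of the target. -/
noncomputable def overMapHom {P' P : (fp (ofSpMap g) π).obj} (φ : P' ⟶ P) (α : P.obj.fst ⟶ η') :
    overObj g π P' ((fpFst (ofSpMap g) π).map φ ≫ α) ⟶ overObj g π P α :=
  CostructuredArrow.homMk φ.hom.snd (by
    show π.map φ.hom.snd ≫ P.obj.iso.inv ≫ (ofSpMap g).map α =
      P'.obj.iso.inv ≫ (ofSpMap g).map (φ.hom.fst ≫ α)
    rw [(ofSpMap g).toFunctor.map_comp, ← Category.assoc]
    conv_rhs => rw [← Category.assoc]
    refine congrArg (· ≫ (ofSpMap g).map α) ?_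
    rw [Iso.eq_inv_comp, ← Category.assoc, Iso.comp_inv_eq]
    exact φ.hom.w.symm)

theorem cmp_natural {P' P : (fp (ofSpMap g) π).obj} (φ : P' ⟶ P) (α : P.obj.fst ⟶ η') :
    φ ≫ cmp g π P α = cmp g π P' ((fpFst (ofSpMap g) π).map φ ≫ α) ≫ (liftFun g π η').map (overMapHom g π φ α) := by
  refine ObjectProperty.hom_ext _ (CategoricalPullback.hom_ext (Stk.EltObj.hom_ext ?_) ?_)
  · show φ.hom.fst.hom ≫ P.obj.iso.hom.hom ≫ eqToHom (π.w_obj P.obj.snd) =
      (P'.obj.iso.hom.hom ≫ eqToHom (π.w_obj P'.obj.snd)) ≫ 𝒳.p.map φ.hom.snd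
    have h : φ.hom.fst.hom ≫ P.obj.iso.hom.hom = P'.obj.iso.hom.hom ≫ (π.map φ.hom.snd).hom :=
      congrArg Stk.EltObj.Hom.hom φ.hom.w
    haveI : 𝒳.p.IsHomLift (𝒳.p.map φ.hom.snd) φ.hom.snd := IsHomLift.map 𝒳.p _
    haveI := BasedFunctor.preserves_isHomLift π (𝒳.p.map φ.hom.snd) φ.hom.snd
    have h2 : (π.map φ.hom.snd).hom = eqToHom (π.w_obj P'.obj.snd) ≫ 𝒳.p.map φ.hom.snd ≫
        eqToHom (π.w_obj P.obj.snd).symm := IsHomLift.fac' (ofSp M).p (𝒳.p.map φ.hom.snd) (π.map φ.hom.snd)
    rw [← Category.assoc, h, h2]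
    simp
  · show φ.hom.snd ≫ 𝟙 P.obj.snd = 𝟙 P'.obj.snd ≫ φ.hom.snd
    rw [Category.comp_id, Category.id_comp]

set_option maxHeartbeats 800000 in
/-- Lifting over the image object gives lifting of sections over the object. -/
theorem surjective_relSectMap (h : Lifts (fibCat π (imgObj g η'))) {F G : StMod.QCoh (fp (ofSpMap g) π)} (u : F ⟶ G)
    (hu : StMod.Mod.IsSurj u.hom) (hf : IsFibGrpd (fp (ofSpMap g) π).p) :
    Function.Surjective (StMod.Mod.relSectMap (fpFst (ofSpMap g) π) u.hom η') := by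
  intro t
  obtain ⟨z, hz, huz⟩ := h ((StMod.comapQ (liftFun g π η')).map u) (isSurj_comap _ u hu)
    (fun o => show Γ(((StMod.comapQ (liftFun g π η')).obj G).obj.obj o, ⊤) from
      t.1 ((liftFun g π η').obj o) (liftArr g π η' o))
    (fun {o' o} k => (mapTop_comap (liftFun g π η') G.obj k _).trans ((t.2 (liftMap g π η' o k) _).trans
      (congrArg (t.1 (liftObj g π η' o')) (Stk.EltObj.hom_ext
        ((StMod.map_comp_baseOver π k.left o.hom).trans (congrArg (baseOver π o'.left) (CostructuredArrow.w k)))))))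
  let z' : ∀ o : (fibCat π (imgObj g η')).obj, Γ(F.obj.obj ((liftFun g π η').obj o), ⊤) := fun o => z o
  let s : ∀ P (α : (fpFst (ofSpMap g) π).obj P ⟶ η'), Γ(F.obj.obj P, ⊤) := fun P α =>
    F.obj.mapTop (cmp g π P α) (z' (overObj g π P α))
  have hs : ∀ P' P (φ : P' ⟶ P) (α : (fpFst (ofSpMap g) π).obj P ⟶ η'),
      F.obj.mapTop φ (s P α) = s P' ((fpFst (ofSpMap g) π).map φ ≫ α) := fun P' P φ α => by
    show F.obj.mapTop φ (F.obj.mapTop _ _) = F.obj.mapTop _ _
    have e : F.obj.mapTop ((liftFun g π η').map (overMapHom g π φ α)) (z' (overObj g π P α)) =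
        z' (overObj g π P' ((fpFst (ofSpMap g) π).map φ ≫ α)) :=
      (mapTop_comap (liftFun g π η') F.obj (overMapHom g π φ α) _).symm.trans (hz (overMapHom g π φ α))
    rw [← StMod.Mod.mapTop_comp, cmp_natural, StMod.Mod.mapTop_comp, e]
  refine ⟨⟨s, hs⟩, StMod.Mod.RelSect.ext _ _ _ fun P α => ?_⟩
  show (u.hom.app P).app ⊤ (F.obj.mapTop (cmp g π P α) (z' (overObj g π P α))) = t.1 P α
  rw [← StMod.Mod.mapTop_app]
  refine (congrArg (G.obj.mapTop (cmp g π P α)) (huz (overObj g π P α))).trans ?_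
  refine (t.2 (cmp g π P α) _).trans (congrArg (t.1 P) (Stk.EltObj.hom_ext ?_))
  show (P.obj.iso.hom.hom ≫ eqToHom (π.w_obj P.obj.snd)) ≫ eqToHom (π.w_obj P.obj.snd).symm ≫
    (P.obj.iso.inv.hom ≫ α.hom) = α.hom
  have h' : P.obj.iso.hom.hom ≫ P.obj.iso.inv.hom = 𝟙 _ := congrArg Stk.EltObj.Hom.hom P.obj.iso.hom_inv_id
  simp [reassoc_of% h']

/-- Cohomological affinity is stable under base change, given quasi-compact fibre products of affines. -/
theorem isCohAffine_bc' {M : AlgSp.Space S} {M' : AlgSp.Sp S} (g : M' ⟶ M.obj)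
    (π : 𝒳 ⥤ᵇ ofSp M.obj) (h𝒳 : IsAlgStack Scheme.fppfPrecoverage 𝒳) (hM : CompactPullbacks M.obj)
    (hqc : AlgSt.IsQuasiCompactMor Scheme.fppfPrecoverage π) (hqs : AlgSt.IsQuasiSeparatedMor π)
    (hf : IsFibGrpd (fp (ofSpMap g) π).p) (h : StMod.IsCohAffine π) :
    StMod.IsCohAffine (fpFst (ofSpMap g) π) := fun F G u hu E hE =>
  surjective_relSectMap g π (η' := etaOf E) (lifts_affine π h𝒳 hM hqc hqs h (imgObj g (etaOf E)) hE) u hu hf

/-- Cohomological affinity is stable under base change between algebraic spaces. -/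
theorem isCohAffine_bc [QuasiSeparatedSpace S] {M : AlgSp.Space S} {M' : AlgSp.Sp S} (g : M' ⟶ M.obj)
    (π : 𝒳 ⥤ᵇ ofSp M.obj) (h𝒳 : IsAlgStack Scheme.fppfPrecoverage 𝒳) (hM : AlgSp.IsQuasiSeparatedSp M.obj)
    (hqc : AlgSt.IsQuasiCompactMor Scheme.fppfPrecoverage π) (hqs : AlgSt.IsQuasiSeparatedMor π)
    (hf : IsFibGrpd (fp (ofSpMap g) π).p) (h : StMod.IsCohAffine π) :
    StMod.IsCohAffine (fpFst (ofSpMap g) π) :=
  isCohAffine_bc' g π h𝒳 (compactPullbacks_of_isQuasiSeparatedSp hM) hqc hqs hf h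

end Groth.Agent.H14.CohBC
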