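import Groth.Agent.H14.CohBC.Local
import Groth.Agent.H14.CohBC.Member
import Groth.Agent.H14.QuotGood.Main
import Groth.Agent.H14.GenFam.Transport

/-!
Cohomologically affine morphisms lift compatible families over every affine object of the target.
-/

set_option autoImplicit false
set_option backward.isDefEq.respectTransparency false
set_option backward.isDefEq.respectTransparency.types false
set_option linter.style.haveILetI false

universe u

open CategoryTheory CategoryTheory.Limits AlgebraicGeometry Opposite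
open StMod (sch bmap fibCat fibFst etaOf baseOver)
open Groth.Agent.Lib Groth.Agent.Lib.AlgStack
open Groth.Agent.H14.AffPush
open FibCat (IsFibGrpd)
open AlgSt (ofSp ofSch IsAlgStack)
open Groth.Agent.H14.GenFam (baseFun exists_chart_at Chart isFibGrpd_fibCat)
open Groth.Agent.H14.QuotGood (topObj toTop toTop_uniq fibChart baseOver_topObj)

namespace Groth.Agent.H14.CohBC

variable {S : Scheme.{u}}

theorem equiv_map_symm {M : AlgSp.Sp S} {X Y : Over S} (a : Y ⟶ X) (x : M.obj.obj (op X)) :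
    (AlgSp.J S).uliftYonedaEquiv ((AlgSp.yon S).map a ≫ (AlgSp.J S).uliftYonedaEquiv.symm x) = M.obj.map a.op x := by
  obtain ⟨f, rfl⟩ : ∃ f : (AlgSp.yon S).obj X ⟶ M, (AlgSp.J S).uliftYonedaEquiv f = x :=
    ⟨(AlgSp.J S).uliftYonedaEquiv.symm x, Equiv.apply_symm_apply _ x⟩
  rw [Equiv.symm_apply_apply]
  exact ((AlgSp.J S).map_uliftYonedaEquiv f a).symm

/-- Over an affine etale object, compatible families lift. -/
theorem lifts_etaOf {𝒳 : AlgSt.Cat S} {M : AlgSp.Sp S} {π : 𝒳 ⥤ᵇ ofSp M}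
    (h𝒳 : IsAlgStack Scheme.fppfPrecoverage 𝒳) (hM : CompactPullbacks M) (h : StMod.IsCohAffine π)
    (E : AlgSp.EtOver M) (hE : IsAffine E.obj.left.left) : Lifts (fibCat π (etaOf E)) := fun F G u hu t ht =>
  haveI := hE
  exists_globLift h𝒳.isStack.1 h𝒳 hM h u hu t ht

/-- An affine object of an algebraic space has a flat cover by affine objects with maps to affine etale objects. -/
theorem exists_etale_covers (M : AlgSp.Space S) (η : (ofSp M.obj).obj) :
    ∃ (J : Type u) (ω : J → (ofSp M.obj).obj) (c : ∀ j, ω j ⟶ η) (E : J → AlgSp.EtOver M.obj)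
      (_ : ∀ j, ω j ⟶ etaOf (E j)), (∀ j, IsAffine (sch (ofSp M.obj) (ω j))) ∧
      (∀ j, IsAffine (E j).obj.left.left) ∧ (∀ j, Flat (bmap (ofSp M.obj) (c j))) ∧
      ∀ v, ∃ j, v ∈ Set.range (bmap (ofSp M.obj) (c j)) := by
  obtain ⟨U, p, hp, hs⟩ := M.property.atlas
  let T : Over S := η.base
  obtain ⟨V, g, fst, sq, hg⟩ := AlgSpace.repWith_exists hp ((AlgSp.J S).uliftYonedaEquiv.symm η.sec)
  obtain ⟨b, rfl⟩ := (AlgSp.yon S).map_surjective fst
  haveI : Etale g.left := hg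
  haveI : Surjective g.left := AlgSpace.repWith_property hs sq
  have hO : ∀ v : V.left, ∃ (O : U.left.Opens) (W : V.left.Opens), IsAffineOpen O ∧ IsAffineOpen W ∧ v ∈ W ∧
      W ≤ b.left ⁻¹ᵁ O := fun v => by
    obtain ⟨O, hO, hvO, -⟩ := exists_isAffineOpen_mem_and_subset (X := U.left) (x := b.left v) (U := ⊤) trivial
    obtain ⟨W, hW, hvW, hle⟩ := exists_isAffineOpen_mem_and_subset (X := V.left) (x := v) (U := b.left ⁻¹ᵁ O) hvO
    exact ⟨O, W, hO, hW, hvW, hle⟩
  choose O W hOa hWa hv hle using hO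
  let UO : V.left → Over S := fun v => Over.mk ((O v).ι ≫ U.hom)
  let ι : ∀ v, UO v ⟶ U := fun v => Over.homMk (O v).ι
  let VW : V.left → Over S := fun v => Over.mk ((W v).ι ≫ V.hom)
  let κ : ∀ v, VW v ⟶ V := fun v => Over.homMk (W v).ι
  let h : ∀ v, VW v ⟶ UO v := fun v => Over.homMk (b.left.resLE (O v) (W v) (hle v)) (by
    show b.left.resLE (O v) (W v) (hle v) ≫ (O v).ι ≫ U.hom = (W v).ι ≫ V.hom
    rw [Scheme.Hom.resLE_comp_ι_assoc, Over.w b])
  have hhι : ∀ v, h v ≫ ι v = κ v ≫ b := fun v => Over.OverMorphism.ext (Scheme.Hom.resLE_comp_ι _ _)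
  have het : ∀ v, Etale (ι v).left := fun v => inferInstanceAs (Etale (O v).ι)
  let E : V.left → AlgSp.EtOver M.obj := fun v =>
    AlgSp.EtOver.mk ((AlgSp.yon S).map (ι v) ≫ p) (AlgSpace.repWith_yon_map_comp (het v) hp)
  have hsec : ∀ v, M.obj.obj.map (h v).op (etaOf (E v)).sec = M.obj.obj.map (κ v ≫ g).op η.sec := fun v => by
    refine Eq.trans (b := (AlgSp.J S).uliftYonedaEquiv ((AlgSp.yon S).map (h v) ≫ (E v).obj.hom))
      ((AlgSp.J S).map_uliftYonedaEquiv (E v).obj.hom (h v)) ?_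
    have e : (AlgSp.yon S).map (h v) ≫ (E v).obj.hom =
        (AlgSp.yon S).map (κ v ≫ g) ≫ (AlgSp.J S).uliftYonedaEquiv.symm η.sec := by
      show (AlgSp.yon S).map (h v) ≫ (AlgSp.yon S).map (ι v) ≫ p = _
      rw [← Category.assoc, ← Functor.map_comp, hhι, Functor.map_comp, Functor.map_comp, Category.assoc, Category.assoc,
        sq.w]
    rw [e]
    exact equiv_map_symm (κ v ≫ g) η.sec
  refine ⟨V.left, fun v => ⟨VW v, M.obj.obj.map (κ v ≫ g).op η.sec⟩, fun v => ⟨κ v ≫ g, rfl⟩, E,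
    fun v => ⟨h v, hsec v⟩, fun v => hWa v, fun v => hOa v,
    fun v => inferInstanceAs (Flat ((W v).ι ≫ g.left)), fun x => ?_⟩
  obtain ⟨v, rfl⟩ := g.left.surjective x
  refine ⟨v, ⟨v, hv v⟩, ?_⟩
  show ((W v).ι ≫ g.left) ⟨v, hv v⟩ = g.left v
  rw [Scheme.Hom.comp_apply]
  rfl

section Lift

variable {𝒳 : AlgSt.Cat S} {𝒴 : AlgSt.Cat S} (π : 𝒳 ⥤ᵇ 𝒴) (η : 𝒴.obj)

/-- An object of the restriction read without the tautological object. -/
noncomputable def untop {Z : Over S} {g : Z ⟶ 𝒴.p.obj η}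
    (o : (cat (baseFun (baseFun π η) (topObj (𝒴.p.obj η))) g).obj) : (cat (baseFun π η) g).obj :=
  mkObj (π := baseFun π η) (g := g) o.obj.left.left o.obj.hom (by
    refine o.property.trans ?_
    rw [GenFam.str_baseFun, GenFam.str_baseFun]
    exact baseOver_topObj (baseFun π η) o.obj.left.left o.obj.left.hom rfl)

/-- A morphism of the restriction read without the tautological object. -/
noncomputable def untopMap {Z : Over S} {g : Z ⟶ 𝒴.p.obj η}
    {o' o : (cat (baseFun (baseFun π η) (topObj (𝒴.p.obj η))) g).obj} (k : o' ⟶ o) :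
    untop π η o' ⟶ untop π η o :=
  mkHom k.hom.left.left (CostructuredArrow.w k.hom)

set_option maxHeartbeats 800000 in
/-- Lifting is checked on a flat affine cover of the scheme of the object. -/
theorem lifts_of_cover (hX : IsFibGrpd 𝒳.p) [hη : IsAffine (sch 𝒴 η)] (C : Chart (fibCat π η)) {J : Type u}
    (W : J → Over S) (g : ∀ j, W j ⟶ 𝒴.p.obj η) [∀ j, IsAffine (W j).left] [∀ j, Flat (g j).left]
    (hsurj : ∀ v, ∃ j, v ∈ Set.range (g j).left)
    {F G : StMod.QCoh (fibCat π η)} (u : F ⟶ G) (t : ∀ o : (fibCat π η).obj, Γ(G.obj.obj o, ⊤))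
    (ht : ∀ {o' o : (fibCat π η).obj} (k : o' ⟶ o), G.obj.mapTop k (t o) = t o')
    (hl : ∀ j, ∃ s : ∀ o : (cat (baseFun π η) (g j)).obj, Γ(F.obj.obj o.obj.left, ⊤),
      (∀ (o' o : (cat (baseFun π η) (g j)).obj) (k : o' ⟶ o), F.obj.mapTop k.hom.left (s o) = s o') ∧
      ∀ o : (cat (baseFun π η) (g j)).obj, (u.hom.app o.obj.left).app ⊤ (s o) = t o.obj.left) :
    ∃ s : ∀ o : (fibCat π η).obj, Γ(F.obj.obj o, ⊤),
      (∀ {o' o : (fibCat π η).obj} (k : o' ⟶ o), F.obj.mapTop k (s o) = s o') ∧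
      ∀ o, (u.hom.app o).app ⊤ (s o) = t o := by
  have hf := isFibGrpd_fibCat hX π η
  haveI : IsAffine (sch (ofSch (𝒴.p.obj η)) (topObj (𝒴.p.obj η))) := hη
  let t' : G.obj.RelSect (baseFun π η) (topObj (𝒴.p.obj η)) := ⟨fun ζ _ => t ζ, fun ζ' ζ φ _ => ht φ⟩
  obtain ⟨s, hs⟩ := CohDesc.exists_lift_of_cover (π := baseFun π η) (η := topObj (𝒴.p.obj η)) hf u
    (fibChart (baseFun π η) C) W g hsurj t' fun j => by
      obtain ⟨s, hs, hus⟩ := hl j
      exact ⟨fun o => s (untop π η o), fun o' o k => hs _ _ (untopMap π η k), fun o => hus (untop π η o)⟩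
  refine ⟨fun o => s.1 o (toTop _), fun {o' o} k => (s.2 k _).trans (congrArg (s.1 o') (toTop_uniq _)), fun o => ?_⟩
  exact congrArg (fun r : G.obj.RelSect (baseFun π η) (topObj (𝒴.p.obj η)) => r.1 o (toTop _)) hs

end Lift

/-- Over any affine object of the target, compatible families lift. -/
theorem lifts_affine {𝒳 : AlgSt.Cat S} {M : AlgSp.Space S} (π : 𝒳 ⥤ᵇ ofSp M.obj)
    (h𝒳 : IsAlgStack Scheme.fppfPrecoverage 𝒳) (hM : CompactPullbacks M.obj)
    (hqc : AlgSt.IsQuasiCompactMor Scheme.fppfPrecoverage π) (hqs : AlgSt.IsQuasiSeparatedMor π)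
    (h : StMod.IsCohAffine π) (η : (ofSp M.obj).obj) (hη : IsAffine (sch (ofSp M.obj) η)) :
    Lifts (fibCat π η) := by
  intro F G u hu t ht
  have hMs := IsAlg.isAlgStack_ofSp M
  obtain ⟨C⟩ := exists_chart_at π h𝒳 hMs hqc hqs η hη
  obtain ⟨J, ω, c, E, d, hω, hE, hfl, hsurj⟩ := exists_etale_covers M η
  haveI := hη
  haveI : ∀ j, IsAffine ((ofSp M.obj).p.obj (ω j)).left := hω
  haveI : ∀ j, Flat ((ofSp M.obj).p.map (c j)).left := hfl
  haveI : IsAffine ((ofSp M.obj).p.obj η).left := hη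
  refine lifts_of_cover π η h𝒳.isStack.1 C (fun j => (ofSp M.obj).p.obj (ω j)) (fun j => (ofSp M.obj).p.map (c j))
    hsurj u t ht fun j => ?_
  haveI : IsAffine ((ofSp M.obj).p.obj (etaOf (E j))).left := hE j
  haveI : IsAffineHom ((ofSp M.obj).p.map (d j)).left := inferInstance
  exact exists_lift_member π hMs.isStack.1 (c j) (d j) h𝒳.isStack.1 (hω j)
    (lifts_etaOf h𝒳 hM h (E j) (hE j)) u hu t ht

end Groth.Agent.H14.CohBC
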