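import Groth.Agent.H14.MultiExt.ExtMap

/-!
Images of natural transformations of functors commuting with flat base change.
-/

set_option autoImplicit false
set_option backward.isDefEq.respectTransparency false
set_option backward.isDefEq.respectTransparency.types false
set_option linter.style.haveILetI false

universe u

open CategoryTheory CategoryTheory.Limits AlgebraicGeometry Opposite TensorProduct
open StMod (sch bmap)
open Groth.Agent.Lib.AlgStack
open Groth.Agent.H14.ModDesc
open Groth.Agent.H14.GenFam (bc_induction FlatFun)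
open Groth.Agent.H14.MultiExt (FlatHom)

namespace Groth.Agent.H14.CohBC

variable {S : Scheme.{u}} {𝒳 : AlgSt.Cat S} {Φ Φ' : FlatFun 𝒳} (η : FlatHom Φ Φ')

/-- The restriction of the image. -/
noncomputable def imgRes {o' o : 𝒳.obj} [IsAffine (sch 𝒳 o')] [IsAffine (sch 𝒳 o)] (e : o' ⟶ o) :
    LinearMap.range (η.app o) →+ LinearMap.range (η.app o') :=
  AddMonoidHom.mk' (fun y => ⟨Φ'.res e y.1, by
    obtain ⟨x, hx⟩ := LinearMap.mem_range.1 y.2
    exact ⟨Φ.res e x, by rw [η.natural, hx]⟩⟩) fun a b => Subtype.ext (map_add (Φ'.res e) a.1 b.1)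

theorem imgRes_val {o' o : 𝒳.obj} [IsAffine (sch 𝒳 o')] [IsAffine (sch 𝒳 o)] (e : o' ⟶ o)
    (y : LinearMap.range (η.app o)) : (imgRes η e y).1 = Φ'.res e y.1 := rfl

theorem isSL_imgRes {o' o : 𝒳.obj} [IsAffine (sch 𝒳 o')] [IsAffine (sch 𝒳 o)] (e : o' ⟶ o) :
    IsSL (bmap 𝒳 e).appTop.hom (imgRes η e) := fun r y => Subtype.ext (Φ'.sl e r y.1)

set_option maxHeartbeats 800000 in
theorem isBC_imgRes {o' o : 𝒳.obj} [IsAffine (sch 𝒳 o')] [IsAffine (sch 𝒳 o)] (e : o' ⟶ o)
    (he : Flat (bmap 𝒳 e)) : IsBC (bmap 𝒳 e).appTop.hom (imgRes η e) := by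
  let := (bmap 𝒳 e).appTop.hom.toAlgebra
  have : Module.Flat Γ(sch 𝒳 o, ⊤) Γ(sch 𝒳 o', ⊤) := flat_appTop (bmap 𝒳 e)
  obtain ⟨hs', hb'⟩ := (isBC_iff rfl).1 (Φ'.bc e he)
  let A := Γ(sch 𝒳 o, ⊤)
  let B := Γ(sch 𝒳 o', ⊤)
  refine (isBC_iff rfl).2 ⟨isSL_imgRes η e, ?_, fun y => ?_⟩
  · have key : ∀ t, (bcMap A B (imgRes η e) (isSL_imgRes η e) t).1 =
        bcMap A B (Φ'.res e) hs' ((LinearMap.range (η.app o)).subtype.lTensor B t) := fun t => by
      induction t with
      | zero =>
        rw [map_zero, map_zero, map_zero]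
        rfl
      | tmul c y =>
        rw [bcMap_tmul, LinearMap.lTensor_tmul, bcMap_tmul]
        rfl
      | add a b ha hb =>
        rw [map_add, map_add, map_add, ← ha, ← hb]
        rfl
    intro a b h
    exact (hb'.injective.comp (Module.Flat.lTensor_preserves_injective_linearMap
      (LinearMap.range (η.app o)).subtype (Submodule.injective_subtype _)))
        ((key a).symm.trans ((congrArg Subtype.val h).trans (key b)))
  · obtain ⟨y, x, rfl⟩ := y
    refine bc_induction (Φ.bc e he) (P := fun x => ∃ t, bcMap A B (imgRes η e) (isSL_imgRes η e) t =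
      (η.app o').rangeRestrict x) ⟨0, by rw [map_zero, map_zero]⟩
      (fun a b ⟨t, ht⟩ ⟨t', ht'⟩ => ⟨t + t', by rw [map_add, map_add, ht, ht']⟩) (fun c m => ?_) x
    refine ⟨c ⊗ₜ (η.app o).rangeRestrict m, ?_⟩
    rw [bcMap_tmul, map_smul]
    refine congrArg (c • ·) (Subtype.ext ?_)
    exact (η.natural e m).symm

/-- The image. -/
noncomputable def imgFlat : FlatFun 𝒳 where
  obj o := LinearMap.range (η.app o)
  res := fun {_ _} _ _ e => imgRes η e
  sl := fun {_ _} _ _ e => isSL_imgRes η e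
  res_id o _ y := Subtype.ext (Φ'.res_id o y.1)
  res_comp := fun {_ _ _} _ _ _ e' e y => Subtype.ext (Φ'.res_comp e' e y.1)
  bc := fun {_ _} _ _ e he => isBC_imgRes η e he

/-- The map onto the image. -/
noncomputable def toImg : FlatHom Φ (imgFlat η) where
  app o _ := (η.app o).rangeRestrict
  natural := fun {_ _} _ _ e s => Subtype.ext (η.natural e s)

theorem toImg_surjective (o : 𝒳.obj) [IsAffine (sch 𝒳 o)] : Function.Surjective ((toImg η).app o) :=
  LinearMap.surjective_rangeRestrict _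

end Groth.Agent.H14.CohBC
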