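import Groth.Agent.H14.CohBC.Fib
import Groth.Agent.H14.CohBC.Image

/-!
The locus where two maps to a separated etale object agree, and flatness of maps into etale objects.
-/

set_option autoImplicit false
set_option backward.isDefEq.respectTransparency false
set_option backward.isDefEq.respectTransparency.types false
set_option linter.style.haveILetI false

universe u

open CategoryTheory CategoryTheory.Limits AlgebraicGeometry Opposite
open StMod (sch bmap fibCat fibFst etaOf baseOver)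
open Groth.Agent.Lib Groth.Agent.Lib.AlgStack
open FibCat (IsFibGrpd)
open AlgSt (ofSp)

namespace Groth.Agent.H14.CohBC

variable {S : Scheme.{u}} {𝒳 : AlgSt.Cat S} {M : AlgSp.Sp S}

/-- A flat composite followed by an etale map is flat at the first step. -/
theorem flat_of_comp_etale {X Y Z : Scheme.{u}} (f : X ⟶ Y) (g : Y ⟶ Z) [hg : Etale g] (h : Flat (f ≫ g)) :
    Flat f := by
  have : MorphismProperty.HasOfPostcompProperty @Flat @Etale := by
    rw [MorphismProperty.hasOfPostcompProperty_iff_le_diagonal]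
    intro A B k hk
    show Flat (pullback.diagonal k)
    infer_instance
  exact MorphismProperty.of_postcomp (W := @Flat) (W' := @Etale) f g hg h

/-- The agreement loci of the pairs of maps to an object of the small etale site. -/
structure Agree (π : 𝒳 ⥤ᵇ ofSp M) (E : AlgSp.EtOver M) where
  /-- the locus -/
  Ag : ∀ (ζ : 𝒳.obj), (π.obj ζ ⟶ etaOf E) → (π.obj ζ ⟶ etaOf E) → (sch 𝒳 ζ).Opens
  closed : ∀ ζ α β, IsClosed (Ag ζ α β : Set (sch 𝒳 ζ))
  natural : ∀ {ζ' ζ : 𝒳.obj} (e : ζ' ⟶ ζ) (α β : π.obj ζ ⟶ etaOf E) (x : sch 𝒳 ζ'),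
    x ∈ Ag ζ' (π.map e ≫ α) (π.map e ≫ β) ↔ bmap 𝒳 e x ∈ Ag ζ α β
  eq : ∀ {ζ' ζ : 𝒳.obj} (e : ζ' ⟶ ζ) (α β : π.obj ζ ⟶ etaOf E),
    (∀ x, bmap 𝒳 e x ∈ Ag ζ α β) → π.map e ≫ α = π.map e ≫ β
  self : ∀ ζ (α : π.obj ζ ⟶ etaOf E) x, x ∈ Ag ζ α α

theorem exists_agree (π : 𝒳 ⥤ᵇ ofSp M) (E : AlgSp.EtOver M) [IsAffine E.obj.left.left] :
    Nonempty (Agree π E) := by
  obtain ⟨R, g, fst, sq, hg⟩ := AlgSpace.repWith_exists E.property E.obj.hom
  obtain ⟨b, rfl⟩ := (AlgSp.yon S).map_surjective fst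
  haveI : Etale g.left := hg
  have hpair : ∀ {Q : Over S} (h h' : Q ⟶ R), h ≫ b = h' ≫ b → h ≫ g = h' ≫ g → h = h' := fun {Q} h h' h₁ h₂ =>
    (AlgSp.yon S).map_injective (sq.hom_ext (by rw [← Functor.map_comp, ← Functor.map_comp, h₁])
      (by rw [← Functor.map_comp, ← Functor.map_comp, h₂]))
  obtain ⟨δ, hδb, hδg⟩ : ∃ δ : E.obj.left ⟶ R, δ ≫ b = 𝟙 _ ∧ δ ≫ g = 𝟙 _ := by
    obtain ⟨δ, hδ⟩ := (AlgSp.yon S).map_surjective (sq.lift (𝟙 ((AlgSp.yon S).obj E.obj.left)) (𝟙 _) rfl)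
    exact ⟨δ, (AlgSp.yon S).map_injective (by
      rw [Functor.map_comp, hδ, sq.lift_fst]
      exact ((AlgSp.yon S).map_id _).symm),
      (AlgSp.yon S).map_injective (by
      rw [Functor.map_comp, hδ, sq.lift_snd]
      exact ((AlgSp.yon S).map_id _).symm)⟩
  have hδg' : δ.left ≫ g.left = 𝟙 _ := congrArg CommaMorphism.left hδg
  have hδb' : δ.left ≫ b.left = 𝟙 _ := congrArg CommaMorphism.left hδb
  let n : R.left ⟶ pullback (terminal.from E.obj.left.left) (terminal.from E.obj.left.left) :=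
    pullback.lift b.left g.left (Subsingleton.elim _ _)
  haveI : Mono n := ⟨fun {Q} h h' he => by
    have e1 := congrArg (· ≫ pullback.fst _ _) he
    have e2 := congrArg (· ≫ pullback.snd _ _) he
    simp only [n, Category.assoc, pullback.lift_fst, pullback.lift_snd] at e1 e2
    have hs : h ≫ R.hom = h' ≫ R.hom := by rw [← Over.w g, ← Category.assoc, e2, Category.assoc]
    exact congrArg CommaMorphism.left (hpair (Q := Over.mk (h ≫ R.hom)) (Over.homMk h) (Over.homMk h' hs.symm)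
      (Over.OverMorphism.ext e1) (Over.OverMorphism.ext e2))⟩
  haveI : IsSeparated g.left := by
    rw [show g.left = n ≫ pullback.snd _ _ from (pullback.lift_snd _ _ _).symm]
    infer_instance
  haveI : IsClosedImmersion (δ.left ≫ g.left) := by rw [hδg']; infer_instance
  haveI : IsClosedImmersion δ.left := IsClosedImmersion.of_comp δ.left g.left
  haveI : Etale (δ.left ≫ g.left) := by rw [hδg']; infer_instance
  haveI : Etale δ.left := Etale.of_comp δ.left g.left
  haveI : Mono δ.left := ⟨fun h h' e => by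
    have e' := congrArg (· ≫ g.left) e
    simpa [hδg'] using e'⟩
  haveI : IsOpenImmersion δ.left := IsOpenImmersion.of_flat_of_mono δ.left
  have hχ : ∀ (ζ : 𝒳.obj) (α β : π.obj ζ ⟶ etaOf E),
      ∃ χ : 𝒳.p.obj ζ ⟶ R, χ ≫ b = baseOver π ζ α ∧ χ ≫ g = baseOver π ζ β := fun ζ α β => by
    obtain ⟨χ, hχ⟩ := (AlgSp.yon S).map_surjective (sq.lift ((AlgSp.yon S).map (baseOver π ζ α))
      ((AlgSp.yon S).map (baseOver π ζ β)) (by rw [baseOver_comm, baseOver_comm]))
    exact ⟨χ, (AlgSp.yon S).map_injective (by rw [Functor.map_comp, hχ, sq.lift_fst]),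
      (AlgSp.yon S).map_injective (by rw [Functor.map_comp, hχ, sq.lift_snd])⟩
  choose χ hχb hχg using hχ
  refine ⟨⟨fun ζ α β => (χ ζ α β).left ⁻¹ᵁ δ.left.opensRange, fun ζ α β =>
    δ.left.isClosedEmbedding.isClosed_range.preimage (χ ζ α β).left.continuous, fun {ζ' ζ} e α β x => ?_,
    fun {ζ' ζ} e α β h => ?_, fun ζ α x => ?_⟩⟩
  · have he : χ ζ' (π.map e ≫ α) (π.map e ≫ β) = 𝒳.p.map e ≫ χ ζ α β :=
      hpair _ _ (by rw [hχb, Category.assoc, hχb, StMod.map_comp_baseOver])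
        (by rw [hχg, Category.assoc, hχg, StMod.map_comp_baseOver])
    show (χ ζ' (π.map e ≫ α) (π.map e ≫ β)).left x ∈ Set.range δ.left ↔
      (χ ζ α β).left (bmap 𝒳 e x) ∈ Set.range δ.left
    rw [he, Over.comp_left, Scheme.Hom.comp_apply]
    exact Iff.rfl
  · have hr : Set.range ((𝒳.p.map e).left ≫ (χ ζ α β).left) ⊆ Set.range δ.left := by
      rintro _ ⟨x, rfl⟩
      exact h x
    let l := IsOpenImmersion.lift δ.left _ hr
    have hl : l ≫ δ.left = (𝒳.p.map e).left ≫ (χ ζ α β).left := IsOpenImmersion.lift_fac _ _ _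
    refine arr_ext E (Over.OverMorphism.ext ?_)
    rw [← StMod.map_comp_baseOver, ← StMod.map_comp_baseOver, ← hχb ζ α β, ← hχg ζ α β]
    simp only [Over.comp_left, ← Category.assoc, ← hl]
    rw [Category.assoc, Category.assoc, hδg', hδb']
  · have he : χ ζ α α = baseOver π ζ α ≫ δ :=
      hpair _ _ (by rw [hχb, Category.assoc, hδb]; exact (Category.comp_id _).symm)
        (by rw [hχg, Category.assoc, hδg]; exact (Category.comp_id _).symm)
    exact ⟨(baseOver π ζ α).left x, by rw [he]; rfl⟩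

end Groth.Agent.H14.CohBC
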