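import Groth.Agent.H14.CohBC.Agree

/-!
Families supported on the agreement locus.
-/

set_option autoImplicit false
set_option backward.isDefEq.respectTransparency false
set_option backward.isDefEq.respectTransparency.types false
set_option linter.style.haveILetI false

universe u

open CategoryTheory CategoryTheory.Limits AlgebraicGeometry Opposite
open StMod (sch bmap fibCat fibFst etaOf baseOver)
open Groth.Agent.Lib Groth.Agent.Lib.AlgStack
open Groth.Agent.H14.ModDesc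
open FibCat (IsFibGrpd)
open AlgSt (ofSp)
open Groth.Agent.H14.GenFam (Cover Chart exists_obj exists_hom_over AObj homFam oneO oneO_mapTop smul_oneO)

namespace Groth.Agent.H14.CohBC

variable {S : Scheme.{u}} {𝒳 : AlgSt.Cat S} {M : AlgSp.Sp S} {π : 𝒳 ⥤ᵇ ofSp M} {E : AlgSp.EtOver M}

/-- A value at an affine object over a member, characterised on and off the agreement locus. -/
def IsVal (A : Agree π E) (F : StMod.QCoh (fibCat π (etaOf E))) (d : (fibCat π (etaOf E)).obj)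
    (z : Γ(F.obj.obj d, ⊤)) (ξ : (fibCat π (etaOf E)).obj) (a : ξ.left ⟶ d.left) (v : Γ(F.obj.obj ξ, ⊤)) : Prop :=
  ∀ (o : (fibCat π (etaOf E)).obj), IsAffine (sch (fibCat π (etaOf E)) o) → ∀ e : o ⟶ ξ,
    ((∀ x, bmap 𝒳 e.left x ∈ A.Ag ξ.left ξ.hom (π.map a ≫ d.hom)) →
      ∀ k : o ⟶ d, k.left = e.left ≫ a → F.obj.mapTop e v = F.obj.mapTop k z) ∧
    ((∀ x, bmap 𝒳 e.left x ∉ A.Ag ξ.left ξ.hom (π.map a ≫ d.hom)) → F.obj.mapTop e v = 0)

/-- A refinement by the two clopen pieces. -/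
theorem exists_pieces (A : Agree π E) (hX : IsFibGrpd 𝒳.p) (ξ : (fibCat π (etaOf E)).obj)
    [IsAffine (sch (fibCat π (etaOf E)) ξ)] (α β : π.obj ξ.left ⟶ etaOf E) :
    ∃ (K : Type u) (_ : Finite K) (D : Cover ξ K), ∀ k,
      (∀ x, bmap 𝒳 (D.e k).left x ∈ A.Ag ξ.left α β) ∨ ∀ x, bmap 𝒳 (D.e k).left x ∉ A.Ag ξ.left α β := by
  have hf := GenFam.isFibGrpd_fibCat hX π (etaOf E)
  let D₀ : Cover ξ PUnit.{u + 1} := ⟨fun _ => ξ, fun _ => inferInstance, fun _ => 𝟙 ξ,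
    fun _ => by rw [StMod.bmap_id]; infer_instance, fun v => ⟨⟨⟩, v, by rw [StMod.bmap_id]; rfl⟩⟩
  let O : ULift.{u} Bool → (sch 𝒳 ξ.left).Opens := fun b =>
    cond b.down (A.Ag ξ.left α β) ⟨(A.Ag ξ.left α β : Set (sch 𝒳 ξ.left))ᶜ, (A.closed _ α β).isOpen_compl⟩
  obtain ⟨K, hK, D, σ, p, hp, hr⟩ := MultiExt.exists_refine hf D₀ (ι := fun _ => ULift.{u} Bool) (fun _ => O) fun _ v => by
    by_cases h : v ∈ A.Ag ξ.left α β
    · exact ⟨⟨true⟩, h⟩
    · exact ⟨⟨false⟩, h⟩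
  refine ⟨K, hK, D, fun k => ?_⟩
  obtain ⟨⟨b⟩, hb⟩ := hr k
  have e : D.e k = p k := (hp k).symm.trans (Category.comp_id _)
  cases b with
  | true => exact Or.inl fun x => hb ⟨x, by rw [← e]; rfl⟩
  | false => exact Or.inr fun x => hb ⟨x, by rw [← e]; rfl⟩

variable {A : Agree π E} {F : StMod.QCoh (fibCat π (etaOf E))} {d : (fibCat π (etaOf E)).obj}
  {z : Γ(F.obj.obj d, ⊤)} {ξ : (fibCat π (etaOf E)).obj} {a : ξ.left ⟶ d.left}

theorem exists_agreeMap (e₀ : (fibCat π (etaOf E)).obj) (e : e₀ ⟶ ξ)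
    (h : ∀ x, bmap 𝒳 e.left x ∈ A.Ag ξ.left ξ.hom (π.map a ≫ d.hom)) :
    ∃ k : e₀ ⟶ d, k.left = e.left ≫ a := by
  refine ⟨CostructuredArrow.homMk (e.left ≫ a) ?_, rfl⟩
  rw [π.toFunctor.map_comp, Category.assoc, ← A.eq e.left ξ.hom (π.map a ≫ d.hom) h]
  exact CostructuredArrow.w e

theorem IsVal.unique (hX : IsFibGrpd 𝒳.p) [IsAffine (sch (fibCat π (etaOf E)) ξ)] {v v' : Γ(F.obj.obj ξ, ⊤)}
    (h : IsVal A F d z ξ a v) (h' : IsVal A F d z ξ a v') : v = v' := by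
  obtain ⟨K, _, D, hD⟩ := exists_pieces A hX ξ ξ.hom (π.map a ≫ d.hom)
  refine D.eq_of_mapTop F fun k => ?_
  rcases hD k with hk | hk
  · obtain ⟨m, hm⟩ := exists_agreeMap _ (D.e k) hk
    rw [(h _ (D.aff k) (D.e k)).1 hk m hm, (h' _ (D.aff k) (D.e k)).1 hk m hm]
  · rw [(h _ (D.aff k) (D.e k)).2 hk, (h' _ (D.aff k) (D.e k)).2 hk]

theorem IsVal.mono {ξ' : (fibCat π (etaOf E)).obj} (f : ξ' ⟶ ξ) {a' : ξ'.left ⟶ d.left} (ha : f.left ≫ a = a')
    {v : Γ(F.obj.obj ξ, ⊤)} (h : IsVal A F d z ξ a v) : IsVal A F d z ξ' a' (F.obj.mapTop f v) := by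
  subst ha
  intro o ho e
  have key : ∀ x, bmap 𝒳 e.left x ∈ A.Ag ξ'.left ξ'.hom (π.map (f.left ≫ a) ≫ d.hom) ↔
      bmap 𝒳 (e ≫ f).left x ∈ A.Ag ξ.left ξ.hom (π.map a ≫ d.hom) := fun x => by
    rw [← CostructuredArrow.w f, π.toFunctor.map_comp, Category.assoc, A.natural f.left]
    show _ ↔ bmap 𝒳 (e.left ≫ f.left) x ∈ _
    rw [StMod.bmap_comp, Scheme.Hom.comp_apply]
  refine ⟨fun hx k hk => ?_, fun hx => ?_⟩
  · rw [← StMod.Mod.mapTop_comp]
    exact (h o ho (e ≫ f)).1 (fun x => (key x).1 (hx x)) k (hk.trans (Category.assoc _ _ _).symm)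
  · rw [← StMod.Mod.mapTop_comp]
    exact (h o ho (e ≫ f)).2 fun x hh => hx x ((key x).2 hh)

theorem IsVal.post {G : StMod.QCoh (fibCat π (etaOf E))} (u : F ⟶ G) {v : Γ(F.obj.obj ξ, ⊤)}
    (h : IsVal A F d z ξ a v) : IsVal A G d ((u.hom.app d).app ⊤ z) ξ a ((u.hom.app ξ).app ⊤ v) := by
  intro o ho e
  refine ⟨fun hx k hk => ?_, fun hx => ?_⟩
  · rw [StMod.Mod.mapTop_app, StMod.Mod.mapTop_app, (h o ho e).1 hx k hk]
  · rw [StMod.Mod.mapTop_app, (h o ho e).2 hx]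
    exact map_zero _

variable (A F d z ξ a)

theorem exists_isVal (hX : IsFibGrpd 𝒳.p) [IsAffine (sch (fibCat π (etaOf E)) ξ)] : ∃ v, IsVal A F d z ξ a v := by
  classical
  have hf := GenFam.isFibGrpd_fibCat hX π (etaOf E)
  obtain ⟨K, _, D, hD⟩ := exists_pieces A hX ξ ξ.hom (π.map a ≫ d.hom)
  let Ag := A.Ag ξ.left ξ.hom (π.map a ≫ d.hom)
  let y : ∀ k, Γ(F.obj.obj (D.E k), ⊤) := fun k =>
    if h : ∀ x, bmap 𝒳 (D.e k).left x ∈ Ag then F.obj.mapTop (exists_agreeMap _ (D.e k) h).choose z else 0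
  have hy : ∀ (k : K) (o : (fibCat π (etaOf E)).obj) (_ : IsAffine (sch (fibCat π (etaOf E)) o)) (q : o ⟶ D.E k),
      ((∀ x, bmap 𝒳 (q ≫ D.e k).left x ∈ Ag) → ∀ m : o ⟶ d, m.left = (q ≫ D.e k).left ≫ a →
        F.obj.mapTop q (y k) = F.obj.mapTop m z) ∧
      ((∀ x, bmap 𝒳 (q ≫ D.e k).left x ∉ Ag) → F.obj.mapTop q (y k) = 0) := by
    intro k o ho q
    have hq : ∀ x, bmap 𝒳 (q ≫ D.e k).left x = bmap 𝒳 (D.e k).left (bmap 𝒳 q.left x) := fun x => by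
      show bmap 𝒳 (q.left ≫ (D.e k).left) x = _
      rw [StMod.bmap_comp, Scheme.Hom.comp_apply]
    have hsub : ∀ (hh : ∀ x : sch (fibCat π (etaOf E)) o, False) (s t : Γ(F.obj.obj o, ⊤)), s = t := fun hh s t => by
      haveI : IsEmpty (sch (fibCat π (etaOf E)) o) := ⟨hh⟩
      haveI : Subsingleton Γ(sch (fibCat π (etaOf E)) o, ⊤) := inferInstance
      haveI := Module.subsingleton Γ(sch (fibCat π (etaOf E)) o, ⊤) Γ(F.obj.obj o, ⊤)
      exact Subsingleton.elim s t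
    by_cases h : ∀ x, bmap 𝒳 (D.e k).left x ∈ Ag
    · refine ⟨fun _ m hm => ?_, fun hn => hsub (fun x => hn x (by rw [hq]; exact h _)) _ _⟩
      simp only [y, dif_pos h]
      rw [← StMod.Mod.mapTop_comp]
      congr 1
      exact CostructuredArrow.hom_ext _ _ (((congrArg (q.left ≫ ·) (exists_agreeMap _ (D.e k) h).choose_spec).trans
        (Category.assoc _ _ _).symm).trans hm.symm)
    · have h' : ∀ x, bmap 𝒳 (D.e k).left x ∉ Ag := (hD k).resolve_left h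
      refine ⟨fun hp m hm => hsub (fun x => h' _ (hq x ▸ hp x)) _ _, fun _ => ?_⟩
      simp only [y, dif_neg h]
      exact F.obj.mapTop_zero q
  obtain ⟨v, hv⟩ := D.exists_glue hf F y fun i j o ho p q e => by
    by_cases h : ∀ x, bmap 𝒳 (D.e i).left x ∈ Ag
    · have h1 : ∀ x, bmap 𝒳 (p ≫ D.e i).left x ∈ Ag := fun x => by
        show bmap 𝒳 (p.left ≫ (D.e i).left) x ∈ Ag
        rw [StMod.bmap_comp, Scheme.Hom.comp_apply]
        exact h _
      obtain ⟨m, hm⟩ := exists_agreeMap (A := A) (a := a) o (p ≫ D.e i) h1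
      rw [(hy i o ho p).1 h1 m hm, (hy j o ho q).1 (e ▸ h1) m (e ▸ hm)]
    · have h' : ∀ x, bmap 𝒳 (p ≫ D.e i).left x ∉ Ag := fun x => by
        show bmap 𝒳 (p.left ≫ (D.e i).left) x ∉ Ag
        rw [StMod.bmap_comp, Scheme.Hom.comp_apply]
        exact (hD i).resolve_left h _
      rw [(hy i o ho p).2 h', (hy j o ho q).2 (e ▸ h')]
  refine ⟨v, fun o ho e => ?_⟩
  obtain ⟨D', g, hg⟩ := D.exists_pullback hf e
  refine ⟨fun hx m hm => D'.eq_of_mapTop F fun k => ?_, fun hx => D'.eq_of_mapTop F fun k => ?_⟩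
  · rw [← StMod.Mod.mapTop_comp, ← hg, StMod.Mod.mapTop_comp, hv, ← StMod.Mod.mapTop_comp]
    refine (hy k _ (D'.aff k) (g k)).1 (fun x => ?_) _ ?_
    · rw [hg]
      show bmap 𝒳 ((D'.e k).left ≫ e.left) x ∈ Ag
      rw [StMod.bmap_comp, Scheme.Hom.comp_apply]
      exact hx _
    · rw [hg]
      exact (congrArg ((D'.e k).left ≫ ·) hm).trans (Category.assoc _ _ _).symm
  · rw [← StMod.Mod.mapTop_comp, ← hg, StMod.Mod.mapTop_comp, hv, StMod.Mod.mapTop_zero]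
    refine (hy k _ (D'.aff k) (g k)).2 fun x => ?_
    rw [hg]
    show bmap 𝒳 ((D'.e k).left ≫ e.left) x ∉ Ag
    rw [StMod.bmap_comp, Scheme.Hom.comp_apply]
    exact hx _

set_option maxHeartbeats 800000 in
/-- The family extending a value by zero off the agreement locus. -/
theorem exists_valFam (hX : IsFibGrpd 𝒳.p) :
    ∃ τ : homFam (fibFst π (etaOf E)) (StMod.OQ (fibCat π (etaOf E))) F d.left,
      ∀ l, IsVal A F d z l.ξ l.α (τ.1 l (oneO _ l.ξ)) := by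
  choose v hv using fun l : AObj (fibFst π (etaOf E)) d.left => exists_isVal A F d z l.ξ l.α hX
  refine ⟨⟨fun l =>
    { toFun := fun s => (show Γ(sch (fibCat π (etaOf E)) l.ξ, ⊤) from s) • v l
      map_add' := fun s t => add_smul _ _ (v l)
      map_smul' := fun r s => mul_smul r _ (v l) }, fun l' l φ h s => ?_⟩, fun l => ?_⟩
  · show F.obj.mapTop φ ((show Γ(sch (fibCat π (etaOf E)) l.ξ, ⊤) from s) • v l) =
      (show Γ(sch (fibCat π (etaOf E)) l'.ξ, ⊤) from (StMod.OQ (fibCat π (etaOf E))).obj.mapTop φ s) • v l'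
    have e : F.obj.mapTop φ (v l) = v l' := ((hv l).mono φ h).unique hX (hv l')
    rw [StMod.Mod.mapTop_smul, e]
    refine congrArg (fun c => c • v l') ?_
    exact (StMod.O_mapTop (fibCat π (etaOf E)) φ s).symm
  · show IsVal A F d z l.ξ l.α ((1 : Γ(sch (fibCat π (etaOf E)) l.ξ, ⊤)) • v l)
    rw [one_smul]
    exact hv l

end Groth.Agent.H14.CohBC
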