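import Groth.Agent.H14.CohDesc.Descend
import Groth.Agent.H14.MultiExt.ExtMap
import Groth.Agent.Lib.AlgSpMor.DiagCharts
import Mathlib.AlgebraicGeometry.Morphisms.FlatMono

/-!
The category over an object of the small etale site: universal objects and charts of its projection.
-/

set_option autoImplicit false
set_option backward.isDefEq.respectTransparency false
set_option backward.isDefEq.respectTransparency.types false
set_option linter.style.haveILetI false

universe u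

open CategoryTheory CategoryTheory.Limits AlgebraicGeometry Opposite
open StMod (sch bmap fibCat fibFst etaOf baseOver)
open Groth.Agent.Lib Groth.Agent.Lib.AlgStack
open Groth.Agent.H14.ModDesc
open Groth.Agent.H14.AffPush
open FibCat (IsFibGrpd)
open AlgSt (ofSp)
open Groth.Agent.H14.GenFam (Cover Chart exists_obj exists_hom_over FibData fp_OQ)
open Groth.Agent.H14.CohDesc (map_map)
open Groth.Agent.Lib.AlgStack

namespace Groth.Agent.H14.CohBC

variable {S : Scheme.{u}} {𝒳 : AlgSt.Cat S} {M : AlgSp.Sp S} (π : 𝒳 ⥤ᵇ ofSp M)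

/-- The value of the functor at an object as a morphism from the scheme. -/
noncomputable def secAt (ζ : 𝒳.obj) : (AlgSp.yon S).obj (𝒳.p.obj ζ) ⟶ M :=
  (AlgSp.J S).uliftYonedaEquiv.symm (M.obj.map (eqToHom (π.w_obj ζ).symm).op (π.obj ζ).sec)

theorem secAt_map {ζ' ζ : 𝒳.obj} (e : ζ' ⟶ ζ) :
    (AlgSp.yon S).map (𝒳.p.map e) ≫ secAt π ζ = secAt π ζ' := by
  apply (AlgSp.J S).uliftYonedaEquiv.injective
  refine ((AlgSp.J S).map_uliftYonedaEquiv (secAt π ζ) (𝒳.p.map e)).symm.trans ?_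
  rw [secAt, Equiv.apply_symm_apply, secAt, Equiv.apply_symm_apply, ← (π.map e).map_sec]
  erw [map_map M, map_map M]
  refine congrArg (fun k : 𝒳.p.obj ζ' ⟶ (π.obj ζ).base => M.obj.map k.op (π.obj ζ).sec) ?_
  haveI : 𝒳.p.IsHomLift (𝒳.p.map e) e := IsHomLift.map 𝒳.p _
  haveI := BasedFunctor.preserves_isHomLift π (𝒳.p.map e) e
  have h := IsHomLift.fac' (ofSp M).p (𝒳.p.map e) (π.map e)
  show 𝒳.p.map e ≫ eqToHom (π.w_obj ζ).symm = eqToHom (π.w_obj ζ').symm ≫ (ofSp M).p.map (π.map e)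
  rw [h]
  simp

variable (E : AlgSp.EtOver M) {π}

theorem baseOver_comm {ζ : 𝒳.obj} (α : π.obj ζ ⟶ etaOf E) :
    (AlgSp.yon S).map (baseOver π ζ α) ≫ E.obj.hom = secAt π ζ := by
  apply (AlgSp.J S).uliftYonedaEquiv.injective
  refine ((AlgSp.J S).map_uliftYonedaEquiv E.obj.hom (baseOver π ζ α)).symm.trans ?_
  rw [secAt, Equiv.apply_symm_apply, ← α.map_sec]
  erw [map_map M]
  rfl

theorem arr_ext {ζ : 𝒳.obj} {α β : π.obj ζ ⟶ etaOf E} (h : baseOver π ζ α = baseOver π ζ β) : α = β :=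
  Stk.EltObj.hom_ext ((cancel_epi (eqToHom (π.w_obj ζ).symm)).1 h)

theorem exists_arr {ζ : 𝒳.obj} (f : 𝒳.p.obj ζ ⟶ E.obj.left)
    (h : (AlgSp.yon S).map f ≫ E.obj.hom = secAt π ζ) : ∃ α : π.obj ζ ⟶ etaOf E, baseOver π ζ α = f := by
  have h' := congrArg (AlgSp.J S).uliftYonedaEquiv h
  rw [secAt, Equiv.apply_symm_apply] at h'
  replace h' : M.obj.map f.op (etaOf E).sec = M.obj.map (eqToHom (π.w_obj ζ).symm).op (π.obj ζ).sec :=
    ((AlgSp.J S).map_uliftYonedaEquiv E.obj.hom f).trans h'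
  refine ⟨⟨eqToHom (π.w_obj ζ) ≫ f, ?_⟩, ?_⟩
  · erw [← map_map M (eqToHom (π.w_obj ζ)) f, h', map_map M]
    rw [eqToHom_trans, eqToHom_refl, op_id, M.obj.map_id]
    rfl
  · show eqToHom (π.w_obj ζ).symm ≫ eqToHom (π.w_obj ζ) ≫ f = f
    rw [eqToHom_trans_assoc, eqToHom_refl, Category.id_comp]

/-- Fibre products of affine schemes over `M` are quasi-compact. -/
def CompactPullbacks (M : AlgSp.Sp S) : Prop :=
  ∀ ⦃U V P : Over S⦄ (a : (AlgSp.yon S).obj U ⟶ M) (b : (AlgSp.yon S).obj V ⟶ M) (p : P ⟶ U) (q : P ⟶ V),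
    IsAffine U.left → IsAffine V.left → IsPullback ((AlgSp.yon S).map p) ((AlgSp.yon S).map q) a b →
      CompactSpace P.left

theorem compactPullbacks_of_isQuasiSeparatedSp [QuasiSeparatedSpace S] {M : AlgSp.Sp S}
    (hM : AlgSp.IsQuasiSeparatedSp M) : CompactPullbacks M := fun _ _ _ _ _ _ _ _ _ sq =>
  AlgSpMor.DiagCharts.compactSpace_of_isQuasiSeparatedSp hM sq

/-- Fibre products of affine schemes over a quasi-separated scheme are quasi-compact. -/
theorem compactPullbacks_yon (M : Over S) [QuasiSeparatedSpace M.left] : CompactPullbacks ((AlgSp.yon S).obj M) := by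
  intro U V P a b p q hU hV sq
  obtain ⟨a', rfl⟩ := (AlgSp.yon S).map_surjective a
  obtain ⟨b', rfl⟩ := (AlgSp.yon S).map_surjective b
  have h := (sq.of_map (AlgSp.yon S) (by
    apply (AlgSp.yon S).map_injective
    rw [Functor.map_comp, Functor.map_comp, sq.w])).map (Over.forget S)
  haveI : CompactSpace ↥U.left := inferInstance
  haveI : CompactSpace ↥(pullback a'.left b'.left) := QuasiCompact.compactSpace_of_compactSpace
    (pullback.fst a'.left b'.left)
  exact @Homeomorph.compactSpace _ _ _ _ (inferInstanceAs (CompactSpace ↥(pullback a'.left b'.left))) h.isoPullback.inv.homeomorph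

/-- A universal object over an object: the base change of the etale scheme. -/
structure Univ (ξ : 𝒳.obj) where
  /-- the object -/
  z : (fibCat π (etaOf E)).obj
  /-- its morphism -/
  m : z.left ⟶ ξ
  etale : Etale (bmap 𝒳 m)
  lift : ∀ (o : (fibCat π (etaOf E)).obj) (k : o.left ⟶ ξ), ∃ f : o ⟶ z, f.left ≫ m = k
  ext : ∀ (o : (fibCat π (etaOf E)).obj) (f f' : o ⟶ z), f.left ≫ m = f'.left ≫ m → f = f'
  compact : IsAffine (sch 𝒳 ξ) → IsAffine E.obj.left.left → CompactPullbacks M →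
    CompactSpace (sch 𝒳 z.left)
  affine : IsAffine (sch 𝒳 ξ) → IsAffine E.obj.left.left → ∀ (U U' : Scheme.{u}) [IsAffine U] [IsAffine U']
    (f : U ⟶ sch 𝒳 z.left) (f' : U' ⟶ sch 𝒳 z.left), IsAffine (pullback f f')

theorem exists_univ (hX : IsFibGrpd 𝒳.p) (ξ : 𝒳.obj) : Nonempty (Univ (π := π) E ξ) := by
  obtain ⟨V, g, fst, sq, hg⟩ := AlgSpace.repWith_exists E.property (secAt π ξ)
  obtain ⟨b, rfl⟩ := (AlgSp.yon S).map_surjective fst
  obtain ⟨ξ', φ, hφ⟩ := hX.exists_lift g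
  have eV : 𝒳.p.obj ξ' = V := IsHomLift.domain_eq 𝒳.p g φ
  have ep : 𝒳.p.map φ = eqToHom eV ≫ g := by simpa using IsHomLift.fac' 𝒳.p g φ
  obtain ⟨α, hα⟩ := exists_arr (π := π) E (eqToHom eV ≫ b) (by
    rw [Functor.map_comp, Category.assoc, sq.w, ← Category.assoc, ← Functor.map_comp, ← ep, secAt_map])
  have hb : bmap 𝒳 φ = (eqToHom eV).left ≫ g.left := congrArg CommaMorphism.left ep
  haveI : IsIso (eqToHom eV).left := inferInstanceAs (IsIso ((Over.forget S).map (eqToHom eV)))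
  have hpair : ∀ {Q : Over S} (h h' : Q ⟶ V), h ≫ b = h' ≫ b → h ≫ g = h' ≫ g → h = h' := fun {Q} h h' h₁ h₂ =>
    (AlgSp.yon S).map_injective (sq.hom_ext (by rw [← Functor.map_comp, ← Functor.map_comp, h₁])
      (by rw [← Functor.map_comp, ← Functor.map_comp, h₂]))
  have hmono : ∀ {Q : Scheme.{u}} (h h' : Q ⟶ V.left), h ≫ b.left = h' ≫ b.left → h ≫ g.left = h' ≫ g.left → h = h' := by
    intro Q h h' h₁ h₂
    have hs : h ≫ V.hom = h' ≫ V.hom := by rw [← Over.w g, ← Category.assoc, h₂, Category.assoc]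
    exact congrArg CommaMorphism.left (hpair (Q := Over.mk (h ≫ V.hom)) (Over.homMk h) (Over.homMk h' hs.symm)
      (Over.OverMorphism.ext h₁) (Over.OverMorphism.ext h₂))
  refine ⟨⟨CostructuredArrow.mk α, φ, ?_, fun o k => ?_, fun o f f' h => ?_, fun hξ hE hM => ?_,
    fun hξ hE U U' _ _ f f' => ?_⟩⟩
  · show Etale (bmap 𝒳 φ)
    rw [hb]
    infer_instance
  · obtain ⟨l, hl₁, hl₂⟩ : ∃ l : (AlgSp.yon S).obj (𝒳.p.obj o.left) ⟶ (AlgSp.yon S).obj V,
        l ≫ (AlgSp.yon S).map b = (AlgSp.yon S).map (baseOver π o.left o.hom) ∧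
        l ≫ (AlgSp.yon S).map g = (AlgSp.yon S).map (𝒳.p.map k) :=
      ⟨sq.lift _ _ (by rw [baseOver_comm, secAt_map]), sq.lift_fst _ _ _, sq.lift_snd _ _ _⟩
    obtain ⟨l, rfl⟩ := (AlgSp.yon S).map_surjective l
    replace hl₁ : l ≫ b = baseOver π o.left o.hom := (AlgSp.yon S).map_injective (by rw [Functor.map_comp, hl₁])
    replace hl₂ : l ≫ g = 𝒳.p.map k := (AlgSp.yon S).map_injective (by rw [Functor.map_comp, hl₂])
    let l' : 𝒳.p.obj o.left ⟶ 𝒳.p.obj ξ' := l ≫ eqToHom eV.symm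
    obtain ⟨f, hf, hfk⟩ := exists_hom_over hX k φ l'.left (by
      show l'.left ≫ (𝒳.p.map φ).left = (𝒳.p.map k).left
      rw [← Over.comp_left, ep, ← hl₂]
      simp [l'])
    refine ⟨CostructuredArrow.homMk f (arr_ext E ?_), hfk⟩
    show baseOver π o.left (π.map f ≫ α) = _
    rw [← StMod.map_comp_baseOver, hα, ← hl₁, show 𝒳.p.map f = l' from Over.OverMorphism.ext hf]
    simp [l']
  · refine CostructuredArrow.hom_ext _ _ (BasedBasic.hom_eq_of_comp_eq hX φ ?_ h)
    have h₁ : ∀ k : o ⟶ CostructuredArrow.mk α, (𝒳.p.map k.left ≫ eqToHom eV) ≫ b = baseOver π o.left o.hom := fun k => by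
      refine (Category.assoc _ _ _).trans ?_
      rw [← hα]
      exact (StMod.map_comp_baseOver π k.left α).trans (congrArg (baseOver π o.left) (CostructuredArrow.w k))
    have h₂ : (𝒳.p.map f.left ≫ eqToHom eV) ≫ g = (𝒳.p.map f'.left ≫ eqToHom eV) ≫ g := by
      rw [Category.assoc, Category.assoc, ← ep, ← Functor.map_comp, ← Functor.map_comp]
      exact congrArg 𝒳.p.map h
    exact (cancel_mono (eqToHom eV)).1 (hpair _ _ ((h₁ f).trans (h₁ f').symm) h₂)
  · haveI : IsAffine (𝒳.p.obj ξ).left := hξ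
    haveI : CompactSpace V.left := hM _ _ _ _ hE hξ sq
    show CompactSpace (𝒳.p.obj ξ').left
    rw [eV]
    infer_instance
  · haveI : IsAffine (sch 𝒳 ξ) := hξ
    haveI : IsAffine E.obj.left.left := hE
    haveI : IsAffine (𝒳.p.obj ξ).left := hξ
    show IsAffine (@pullback _ _ _ _ _ f f' _)
    let e : sch 𝒳 ξ' ⟶ V.left := (eqToHom eV).left
    let n : sch 𝒳 ξ' ⟶ pullback (terminal.from E.obj.left.left) (terminal.from (𝒳.p.obj ξ).left) :=
      pullback.lift (e ≫ b.left) (e ≫ g.left) (Subsingleton.elim _ _)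
    haveI : Mono n := ⟨fun h h' he => by
      have e1 := congrArg (· ≫ pullback.fst _ _) he
      have e2 := congrArg (· ≫ pullback.snd _ _) he
      simp only [n, Category.assoc, pullback.lift_fst, pullback.lift_snd] at e1 e2
      rw [← cancel_mono e]
      exact hmono _ _ (by simpa using e1) (by simpa using e2)⟩
    have H : IsPullback (pullback.fst f f') (pullback.snd f f') (f ≫ n) (f' ≫ n) :=
      ⟨⟨by rw [pullback.condition_assoc]⟩, ⟨PullbackCone.IsLimit.mk _ (fun s => pullback.lift s.fst s.snd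
        (by rw [← cancel_mono n, Category.assoc, Category.assoc, s.condition]))
        (fun s => pullback.lift_fst _ _ _) (fun s => pullback.lift_snd _ _ _)
        (fun s m h₁ h₂ => pullback.hom_ext (by simpa using h₁) (by simpa using h₂))⟩⟩
    exact IsAffine.of_isIso H.isoPullback.hom

variable {E}

/-- The chart of the category over an affine object. -/
theorem exists_chart_fib (hX : IsFibGrpd 𝒳.p) (hM : CompactPullbacks M) [IsAffine E.obj.left.left]
    (ξ : 𝒳.obj) (hξ : IsAffine (sch 𝒳 ξ)) : Nonempty (Chart (fibCat (fibFst π (etaOf E)) ξ)) := by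
  have hf := GenFam.isFibGrpd_fibCat hX π (etaOf E)
  obtain ⟨Z⟩ := exists_univ (π := π) E hX ξ
  haveI := Z.compact hξ inferInstance hM
  let 𝒰 := (sch 𝒳 Z.z.left).affineCover.finiteSubcover
  let U₀ : Scheme.{u} := ∐ fun i => 𝒰.X i
  let d : U₀ ⟶ sch 𝒳 Z.z.left := Sigma.desc fun i => 𝒰.f i
  haveI : ∀ i, IsAffine (𝒰.X i) := fun i => by dsimp [𝒰]; infer_instance
  haveI : IsAffine U₀ := inferInstanceAs (IsAffine (∐ fun i => 𝒰.X i))
  haveI : Surjective d := inferInstanceAs (Surjective (Sigma.desc fun i => 𝒰.f i))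
  haveI : ∀ i, Flat (𝒰.f i) := fun i => inferInstance
  haveI : Flat d := inferInstanceAs (Flat (Sigma.desc fun i => 𝒰.f i))
  obtain ⟨x₀, φ, ex, hφ⟩ := exists_obj hf Z.z (P := U₀) d
  haveI hax : IsAffine (sch 𝒳 x₀.left) := IsAffine.of_isIso ex.hom
  let dx : sch 𝒳 x₀.left ⟶ sch 𝒳 Z.z.left := bmap 𝒳 φ.left
  have hdx : dx = ex.hom ≫ d := hφ
  haveI : Flat dx := by rw [hdx]; infer_instance
  haveI : Surjective dx := by rw [hdx]; infer_instance
  haveI := Z.affine hξ inferInstance (sch 𝒳 x₀.left) (sch 𝒳 x₀.left) dx dx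
  obtain ⟨w₀, π₁, ew, hπ₁⟩ := exists_obj hf x₀ (P := pullback dx dx) (pullback.fst dx dx)
  obtain ⟨π₂, hπ₂, hπ⟩ := exists_hom_over hf (π₁ ≫ φ) φ (ew.hom ≫ pullback.snd dx dx) (by
    rw [StMod.bmap_comp, hπ₁, Category.assoc, Category.assoc]
    exact congrArg (ew.hom ≫ ·) pullback.condition.symm)
  haveI : IsAffine (sch 𝒳 w₀.left) := IsAffine.of_isIso ew.hom
  let mkP : ∀ (o : (fibCat π (etaOf E)).obj), (o ⟶ Z.z) → (fibCat (fibFst π (etaOf E)) ξ).obj := fun o f =>
    CostructuredArrow.mk (show (fibFst π (etaOf E)).obj o ⟶ ξ from f.left ≫ Z.m)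
  let x := mkP x₀ φ
  let w := mkP w₀ (π₁ ≫ φ)
  have hover : ∀ (P : (fibCat (fibFst π (etaOf E)) ξ).obj) (a : P ⟶ x), (a.left ≫ φ).left ≫ Z.m = P.hom := fun P a => by
    show (a.left.left ≫ φ.left) ≫ Z.m = P.hom
    rw [Category.assoc]
    exact CostructuredArrow.w a
  refine ⟨{
    x := x
    w := w
    affx := hax
    affw := inferInstanceAs (IsAffine (sch 𝒳 w₀.left))
    p := CostructuredArrow.homMk π₁ (by
      show π₁.left ≫ φ.left ≫ Z.m = (π₁.left ≫ φ.left) ≫ Z.m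
      rw [Category.assoc])
    q := CostructuredArrow.homMk π₂ (by
      show π₂.left ≫ φ.left ≫ Z.m = (π₁ ≫ φ).left ≫ Z.m
      rw [← Category.assoc]
      exact congrArg (fun k : w₀ ⟶ Z.z => k.left ≫ Z.m) hπ)
    cover := fun P hP => ?_
    overlap := fun P hP a b => ?_ }⟩
  · haveI : IsAffine (sch 𝒳 P.left.left) := hP
    obtain ⟨f, hf'⟩ := Z.lift P.left P.hom
    let k : sch 𝒳 P.left.left ⟶ sch 𝒳 Z.z.left := bmap 𝒳 f.left
    haveI := Z.affine hξ inferInstance (sch 𝒳 P.left.left) (sch 𝒳 x₀.left) k dx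
    obtain ⟨o', χ, eo, hχ⟩ := exists_obj hf P.left (P := pullback k dx) (pullback.fst k dx)
    obtain ⟨a, -, ha⟩ := exists_hom_over hf (χ ≫ f) φ (eo.hom ≫ pullback.snd k dx) (by
      rw [StMod.bmap_comp, hχ, Category.assoc, Category.assoc]
      exact congrArg (eo.hom ≫ ·) pullback.condition.symm)
    let P' : (fibCat (fibFst π (etaOf E)) ξ).obj :=
      CostructuredArrow.mk (show (fibFst π (etaOf E)).obj o' ⟶ ξ from χ.left ≫ P.hom)
    let e : P' ⟶ P := CostructuredArrow.homMk χ rfl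
    refine ⟨1, ⟨fun _ => P', fun _ => IsAffine.of_isIso eo.hom, fun _ => e, fun _ => ?_, fun v => ?_⟩, fun _ =>
      ⟨CostructuredArrow.homMk a ?_⟩⟩
    · show Flat (bmap (fibCat π (etaOf E)) χ)
      rw [hχ]
      infer_instance
    · obtain ⟨y, hy⟩ := dx.surjective (k v)
      obtain ⟨t, ht, -⟩ := Scheme.Pullback.exists_preimage_pullback (f := k) (g := dx) v y hy.symm
      refine ⟨0, eo.inv t, ?_⟩
      show bmap (fibCat π (etaOf E)) χ (eo.inv t) = v
      rw [hχ, ← Scheme.Hom.comp_apply, Iso.inv_hom_id_assoc]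
      exact ht
    · show a.left ≫ φ.left ≫ Z.m = χ.left ≫ P.hom
      rw [← Category.assoc, ← hf', ← Category.assoc χ.left]
      exact congrArg (fun k : o' ⟶ Z.z => k.left ≫ Z.m) ha
  · haveI : IsAffine (sch 𝒳 P.left.left) := hP
    have hab : a.left ≫ φ = b.left ≫ φ := Z.ext _ _ _ ((hover P a).trans (hover P b).symm)
    have hab' : bmap 𝒳 a.left.left ≫ dx = bmap 𝒳 b.left.left ≫ dx := by
      rw [← StMod.bmap_comp, ← StMod.bmap_comp]
      exact congrArg (fun k : P.left ⟶ Z.z => bmap 𝒳 k.left) hab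
    obtain ⟨c, hc, hca⟩ := exists_hom_over hf a.left π₁ (pullback.lift _ _ hab' ≫ ew.inv) (by
      rw [hπ₁, Category.assoc, Iso.inv_hom_id_assoc, pullback.lift_fst]
      rfl)
    have hcb : c ≫ π₂ = b.left := by
      refine BasedBasic.hom_eq_of_comp_eq hf φ (Over.OverMorphism.ext ?_) ?_
      · show bmap (fibCat π (etaOf E)) (c ≫ π₂) = bmap (fibCat π (etaOf E)) b.left
        rw [StMod.bmap_comp, hc, hπ₂, Category.assoc, Iso.inv_hom_id_assoc, pullback.lift_snd]
        rfl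
      · rw [Category.assoc, hπ, ← Category.assoc, hca, hab]
    refine ⟨PUnit.{u + 1}, inferInstance, ⟨fun _ => P, fun _ => hP, fun _ => 𝟙 P, fun _ => ?_, fun v => ⟨⟨⟩, v, ?_⟩⟩,
      fun _ => ⟨CostructuredArrow.homMk c ?_, ?_, ?_⟩⟩
    · rw [StMod.bmap_id]
      infer_instance
    · rw [StMod.bmap_id]
      rfl
    · show c.left ≫ (π₁.left ≫ φ.left) ≫ Z.m = P.hom
      rw [← hover P a, ← Category.assoc, ← Category.assoc]
      refine Eq.trans ?_ (congrArg (fun k : P.left ⟶ Z.z => k.left ≫ Z.m) (show c ≫ π₁ ≫ φ = a.left ≫ φ by rw [← Category.assoc, hca]))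
      show ((c.left ≫ π₁.left) ≫ φ.left) ≫ Z.m = (c.left ≫ π₁.left ≫ φ.left) ≫ Z.m
      simp only [Category.assoc]
    · rw [Category.id_comp]
      exact CostructuredArrow.hom_ext _ _ hca
    · rw [Category.id_comp]
      exact CostructuredArrow.hom_ext _ _ hcb

/-- The data needed to push forward along the projection. -/
theorem fibData (hX : IsFibGrpd 𝒳.p) (hM : CompactPullbacks M) [IsAffine E.obj.left.left] :
    FibData (fibFst π (etaOf E)) (StMod.OQ (fibCat π (etaOf E))) :=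
  ⟨GenFam.isFibGrpd_fibCat hX π (etaOf E), hX, exists_chart_fib hX hM, fun x _ => fp_OQ x⟩

end Groth.Agent.H14.CohBC
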