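import Groth.Agent.H14.CohBC.ExtZero
import Groth.Agent.H14.GenFam.PushApp

/-!
Lifting over an affine etale object of the target of a cohomologically affine morphism.
-/

set_option autoImplicit false
set_option backward.isDefEq.respectTransparency false
set_option backward.isDefEq.respectTransparency.types false
set_option linter.style.haveILetI false

universe u

open CategoryTheory CategoryTheory.Limits AlgebraicGeometry Opposite
open StMod (sch bmap fibCat fibFst etaOf baseOver)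
open Groth.Agent.Lib Groth.Agent.Lib.AlgStack
open Groth.Agent.H14.ModDesc
open FibCat (IsFibGrpd)
open AlgSt (ofSp IsAlgStack)
open Groth.Agent.H14.GenFam (Cover Chart exists_obj exists_hom_over AObj homFam homFlat FibData FlatFun oneO oneO_mapTop smul_oneO exists_hom_of_local homFam_congr homRes_homPost homPost homRes)
open Groth.Agent.H14.MultiExt (MChart FlatHom extQ phiA)
open Groth.Agent.H14.CohDesc (mapTop_fib)

namespace Groth.Agent.H14.CohBC

variable {S : Scheme.{u}} {𝒳 : AlgSt.Cat S} {M : AlgSp.Sp S} {π : 𝒳 ⥤ᵇ ofSp M}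
  {E : AlgSp.EtOver M} (hX : IsFibGrpd 𝒳.p) {F G : StMod.QCoh (fibCat π (etaOf E))}

theorem post_natural {p : fibCat π (etaOf E) ⥤ᵇ 𝒳} {O : StMod.QCoh (fibCat π (etaOf E))} (H : FibData p O)
    (u : F ⟶ G) {o' o : 𝒳.obj} [IsAffine (sch 𝒳 o')] [IsAffine (sch 𝒳 o)] (e : o' ⟶ o) (s : (homFlat H F).obj o) :
    H.post u o' ((homFlat H F).res e s) = (homFlat H G).res e (H.post u o s) :=
  H.val_injective ((H.val_post u o' _).trans ((congrArg (homPost u o') (H.val_res e s)).trans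
    ((homRes_homPost u e (H.val s)).symm.trans ((congrArg (homRes e) (H.val_post u o s).symm).trans
      (H.val_res e _).symm))))

/-- Composition with a morphism as a natural transformation. -/
noncomputable def postHom {p : fibCat π (etaOf E) ⥤ᵇ 𝒳} {O : StMod.QCoh (fibCat π (etaOf E))} (H : FibData p O)
    (u : F ⟶ G) : FlatHom (homFlat H F) (homFlat H G) where
  app o _ := H.post u o
  natural := fun {_ _} _ _ e s => post_natural H u e s

/-- An affine object over a member of the chart with a flat map. -/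
structure Node (C : MChart 𝒳) (π : 𝒳 ⥤ᵇ ofSp M) (E : AlgSp.EtOver M) where
  /-- the object -/
  d : (fibCat π (etaOf E)).obj
  aff : IsAffine (sch 𝒳 d.left)
  /-- the index -/
  i : C.I
  /-- the map to the member -/
  a : d.left ⟶ C.x i
  flat : Flat (bmap 𝒳 a)

attribute [instance] Node.aff

variable (C : MChart 𝒳)

include hX in
/-- Two nodes under an affine object are dominated, locally, by a third. -/
theorem exists_refine_nodes [IsAffine E.obj.left.left] {o : (fibCat π (etaOf E)).obj} [IsAffine (sch 𝒳 o.left)]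
    (N N' : Node C π E) (k : o ⟶ N.d) (k' : o ⟶ N'.d) :
    ∃ (J : Type u) (D : Cover o.left J), ∀ l, ∃ (N'' : Node C π E) (m : N''.d ⟶ N.d) (m' : N''.d ⟶ N'.d)
      (g : D.E l ⟶ N''.d.left), g ≫ m.left = D.e l ≫ k.left ∧ g ≫ m'.left = D.e l ≫ k'.left := by
  have hf := GenFam.isFibGrpd_fibCat hX π (etaOf E)
  obtain ⟨Z⟩ := exists_univ (π := π) E hX (C.x N'.i)
  obtain ⟨J, _, D, hD⟩ := C.overlap o.left ‹_› (k.left ≫ N.a) (k'.left ≫ N'.a)
  refine ⟨J, D, fun l => ?_⟩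
  obtain ⟨r, c, hcp, hcq⟩ := hD l
  -- the fibre product with the relation
  obtain ⟨D₁, π₁, e₁, hπ₁⟩ := exists_obj hf N.d (P := pullback (bmap 𝒳 N.a) (bmap 𝒳 (C.p r)))
    (pullback.fst (bmap 𝒳 N.a) (bmap 𝒳 (C.p r)))
  replace hπ₁ : bmap 𝒳 π₁.left = e₁.hom ≫ pullback.fst (bmap 𝒳 N.a) (bmap 𝒳 (C.p r)) := hπ₁
  haveI : IsAffine (sch 𝒳 D₁.left) := IsAffine.of_isIso e₁.hom
  obtain ⟨π₂, hπ₂, hπ⟩ := exists_hom_over hX (π₁.left ≫ N.a) (C.p r)
    (e₁.hom ≫ pullback.snd (bmap 𝒳 N.a) (bmap 𝒳 (C.p r))) (by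
      rw [StMod.bmap_comp, hπ₁, Category.assoc, Category.assoc, pullback.condition])
  obtain ⟨f₁, hf₁⟩ := Z.lift D₁ (π₂ ≫ C.q r)
  obtain ⟨f', hf'⟩ := Z.lift N'.d N'.a
  let k₁ : sch 𝒳 D₁.left ⟶ sch 𝒳 Z.z.left := bmap 𝒳 f₁.left
  let k₂ : sch 𝒳 N'.d.left ⟶ sch 𝒳 Z.z.left := bmap 𝒳 f'.left
  haveI := Z.affine (C.affx _) inferInstance (sch 𝒳 D₁.left) (sch 𝒳 N'.d.left) k₁ k₂
  obtain ⟨D₂, ρ, e₂, hρ⟩ := exists_obj hf D₁ (P := pullback k₁ k₂) (pullback.fst k₁ k₂)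
  replace hρ : bmap 𝒳 ρ.left = e₂.hom ≫ pullback.fst k₁ k₂ := hρ
  obtain ⟨m', hm'b, hm'⟩ := exists_hom_over hf (ρ ≫ f₁) f' (e₂.hom ≫ pullback.snd k₁ k₂) (by
    rw [StMod.bmap_comp]
    show (e₂.hom ≫ pullback.snd k₁ k₂) ≫ k₂ = bmap 𝒳 ρ.left ≫ k₁
    rw [hρ, Category.assoc, Category.assoc]
    exact congrArg (e₂.hom ≫ ·) pullback.condition.symm)
  haveI hflatk₂ : Flat k₂ := by
    haveI := Z.etale
    refine flat_of_comp_etale k₂ (bmap 𝒳 Z.m) ?_
    rw [← StMod.bmap_comp, hf']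
    exact N'.flat
  have hflat : Flat (bmap 𝒳 ((ρ ≫ π₁).left ≫ N.a)) := by
    haveI := N.flat
    haveI := C.flat r
    show Flat (bmap 𝒳 ((ρ.left ≫ π₁.left) ≫ N.a))
    rw [StMod.bmap_comp, StMod.bmap_comp, hρ, hπ₁]
    infer_instance
  refine ⟨⟨D₂, IsAffine.of_isIso e₂.hom, N.i, (ρ ≫ π₁).left ≫ N.a, hflat⟩, ρ ≫ π₁, m', ?_⟩
  -- the object over the member of the cover
  let oE : (fibCat π (etaOf E)).obj := CostructuredArrow.mk (π.map (D.e l) ≫ o.hom)
  haveI : IsAffine (sch 𝒳 oE.left) := D.aff l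
  let ε : oE ⟶ o := CostructuredArrow.homMk (D.e l) rfl
  let cb : sch 𝒳 oE.left ⟶ sch 𝒳 (C.w r) := bmap 𝒳 c
  have hw : bmap 𝒳 (ε ≫ k).left ≫ bmap 𝒳 N.a = cb ≫ bmap 𝒳 (C.p r) := by
    rw [← StMod.bmap_comp, ← StMod.bmap_comp]
    refine congrArg (bmap 𝒳) ?_
    show (D.e l ≫ k.left) ≫ N.a = c ≫ C.p r
    rw [hcp, Category.assoc]
  obtain ⟨g₁, hg₁, hg₁k⟩ := exists_hom_over hf (ε ≫ k) π₁
    (pullback.lift (bmap 𝒳 (ε ≫ k).left) cb hw ≫ e₁.inv) (by
      show (_ ≫ e₁.inv) ≫ bmap 𝒳 π₁.left = _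
      rw [hπ₁, Category.assoc, Iso.inv_hom_id_assoc, pullback.lift_fst]
      rfl)
  replace hg₁ : bmap 𝒳 g₁.left = pullback.lift (bmap 𝒳 (ε ≫ k).left) cb hw ≫ e₁.inv := hg₁
  have hg₁' : g₁.left ≫ π₁.left = D.e l ≫ k.left := congrArg (fun t : oE ⟶ N.d => t.left) hg₁k
  have hg₁c : g₁.left ≫ π₂ = c := by
    refine BasedBasic.hom_eq_of_comp_eq hX (C.p r) (Over.OverMorphism.ext ?_) ?_
    · show bmap 𝒳 (g₁.left ≫ π₂) = bmap 𝒳 c
      rw [StMod.bmap_comp, hg₁, hπ₂, Category.assoc, Iso.inv_hom_id_assoc, pullback.lift_snd]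
    · rw [Category.assoc, hπ, ← Category.assoc, hg₁', Category.assoc, hcp]
  have hZ : g₁ ≫ f₁ = (ε ≫ k') ≫ f' := by
    refine Z.ext oE _ _ ?_
    show (g₁.left ≫ f₁.left) ≫ Z.m = ((D.e l ≫ k'.left) ≫ f'.left) ≫ Z.m
    rw [Category.assoc, hf₁, ← Category.assoc g₁.left, hg₁c, hcq, Category.assoc, Category.assoc, hf']
  have hw₂ : bmap 𝒳 g₁.left ≫ k₁ = bmap 𝒳 (ε ≫ k').left ≫ k₂ := by
    rw [← StMod.bmap_comp, ← StMod.bmap_comp]
    exact congrArg (fun t : oE ⟶ Z.z => bmap 𝒳 t.left) hZ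
  obtain ⟨g, hgb, hg⟩ := exists_hom_over hf g₁ ρ (pullback.lift _ _ hw₂ ≫ e₂.inv) (by
    show (_ ≫ e₂.inv) ≫ bmap 𝒳 ρ.left = _
    rw [hρ, Category.assoc, Iso.inv_hom_id_assoc, pullback.lift_fst]
    rfl)
  replace hgb : bmap 𝒳 g.left = pullback.lift _ _ hw₂ ≫ e₂.inv := hgb
  have hgm : g ≫ m' = ε ≫ k' := by
    refine BasedBasic.hom_eq_of_comp_eq hf f' (Over.OverMorphism.ext ?_) ?_
    · show bmap 𝒳 (g.left ≫ m'.left) = bmap 𝒳 (ε ≫ k').left
      rw [StMod.bmap_comp, hgb, show bmap 𝒳 m'.left = e₂.hom ≫ pullback.snd k₁ k₂ from hm'b, Category.assoc,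
        Iso.inv_hom_id_assoc, pullback.lift_snd]
    · rw [Category.assoc, hm', ← Category.assoc, hg, hZ]
  refine ⟨g.left, ?_, ?_⟩
  · show g.left ≫ ρ.left ≫ π₁.left = D.e l ≫ k.left
    rw [← hg₁', ← Category.assoc]
    exact congrArg (· ≫ π₁.left) (congrArg (fun t : oE ⟶ D₁ => t.left) hg)
  · exact congrArg (fun t : oE ⟶ N'.d => t.left) hgm

include hX in
/-- The affine objects are covered by those mapping to nodes. -/
theorem exists_cover_nodes [IsAffine E.obj.left.left] (o : (fibCat π (etaOf E)).obj)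
    (ho : IsAffine (sch (fibCat π (etaOf E)) o)) :
    ∃ (n : ℕ) (D : Cover o (Fin n)), ∀ j, ∃ N : Node C π E, Nonempty (D.E j ⟶ N.d) := by
  classical
  have hf := GenFam.isFibGrpd_fibCat hX π (etaOf E)
  obtain ⟨n, D, hD⟩ := C.cover o.left ho
  choose i a using hD
  let D₀ : Cover o (ULift.{u} (Fin n)) :=
    { E := fun j => CostructuredArrow.mk (π.map (D.e j.down) ≫ o.hom)
      aff := fun j => D.aff j.down
      e := fun j => CostructuredArrow.homMk (D.e j.down) rfl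
      flat := fun j => D.flat j.down
      surj := fun v => by obtain ⟨j, h⟩ := D.surj v; exact ⟨⟨j⟩, h⟩ }
  let Z := fun j => (exists_univ (π := π) E hX (C.x (i j))).some
  choose f hfz using fun j : ULift.{u} (Fin n) => (Z j.down).lift (D₀.E j) (a j.down).some
  obtain ⟨K, _, D', σ, p, hp, hr⟩ := MultiExt.exists_refine hf D₀
    (ι := fun j => (sch 𝒳 (Z j.down).z.left).affineOpens)
    (fun j V => bmap (fibCat π (etaOf E)) (f j) ⁻¹ᵁ V.1) fun j v => by
      obtain ⟨V, hV, hv, -⟩ := exists_isAffineOpen_mem_and_subset (X := sch 𝒳 (Z j.down).z.left)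
        (x := bmap 𝒳 (f j).left v) (U := ⊤) trivial
      exact ⟨⟨V, hV⟩, hv⟩
  obtain ⟨m, ⟨eK⟩⟩ := Finite.exists_equiv_fin K
  refine ⟨m, ⟨fun l => D'.E (eK.symm l), fun l => D'.aff _, fun l => D'.e _, fun l => D'.flat _, fun v => by
    obtain ⟨k, hk⟩ := D'.surj v
    obtain ⟨l, rfl⟩ := eK.symm.surjective k
    exact ⟨l, hk⟩⟩, fun l => ?_⟩
  obtain ⟨V, hV⟩ := hr (eK.symm l)
  let j := σ (eK.symm l)
  obtain ⟨d, φ, e, hφ⟩ := exists_obj hf (Z j.down).z (P := (V.1).toScheme) V.1.ι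
  haveI : IsAffine V.1.toScheme := V.2
  haveI hd : IsAffine (sch 𝒳 d.left) := IsAffine.of_isIso e.hom
  haveI : IsOpenImmersion (bmap (fibCat π (etaOf E)) φ) := by rw [hφ]; infer_instance
  obtain ⟨c, -⟩ := MultiExt.exists_factor hf φ (p (eK.symm l) ≫ f j) (by
    rintro _ ⟨y, rfl⟩
    rw [StMod.bmap_comp, Scheme.Hom.comp_apply]
    refine ⟨e.inv ⟨_, hV ⟨y, rfl⟩⟩, ?_⟩
    rw [hφ, ← Scheme.Hom.comp_apply, Iso.inv_hom_id_assoc]
    rfl)
  refine ⟨⟨d, hd, i j.down, φ.left ≫ (Z j.down).m, ?_⟩, ⟨c⟩⟩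
  haveI := (Z j.down).etale
  haveI : IsOpenImmersion (bmap 𝒳 φ.left) := ‹IsOpenImmersion (bmap (fibCat π (etaOf E)) φ)›
  rw [StMod.bmap_comp]
  infer_instance

set_option maxHeartbeats 3200000 in
include hX in
/-- Compatible families over an affine etale object lift along surjections. -/
theorem exists_globLift [IsAffine E.obj.left.left] (h𝒳 : IsAlgStack Scheme.fppfPrecoverage 𝒳)
    (hM : CompactPullbacks M) (h : StMod.IsCohAffine π) (u : F ⟶ G) (hu : StMod.Mod.IsSurj u.hom)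
    (t : ∀ o : (fibCat π (etaOf E)).obj, Γ(G.obj.obj o, ⊤))
    (ht : ∀ {o' o : (fibCat π (etaOf E)).obj} (f : o' ⟶ o), G.obj.mapTop f (t o) = t o') :
    ∃ s : ∀ o : (fibCat π (etaOf E)).obj, Γ(F.obj.obj o, ⊤),
      (∀ {o' o : (fibCat π (etaOf E)).obj} (f : o' ⟶ o), F.obj.mapTop f (s o) = s o') ∧
      ∀ o, (u.hom.app o).app ⊤ (s o) = t o := by
  classical
  obtain ⟨C⟩ := MultiExt.exists_mChart h𝒳
  obtain ⟨A⟩ := exists_agree π E
  have hf := GenFam.isFibGrpd_fibCat hX π (etaOf E)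
  let p := fibFst π (etaOf E)
  let H := fibData (π := π) (E := E) hX hM
  let η₀ := postHom H u
  let ΦF := homFlat H F
  let ΦI := imgFlat η₀
  let PF := extQ (C := C) ΦF hX
  let PI := extQ (C := C) ΦI hX
  obtain ⟨v, hv, hvs⟩ := MultiExt.exists_extMap (C := C) (toImg η₀) hX
  have hsurj := hvs fun i => toImg_surjective η₀ (C.x i)
  let IVal := fun {o : 𝒳.obj} [IsAffine (sch 𝒳 o)] (x : ΦI.obj o) (l : AObj p o) =>
    (H.val x.1).1 l (oneO _ l.ξ)
  -- the element at a node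
  have htau : ∀ N : Node C π E, ∃ x : ΦI.obj N.d.left,
      ∀ l : AObj p N.d.left, IsVal A G N.d (t N.d) l.ξ l.α (IVal x l) := fun N => by
    obtain ⟨f, hf'⟩ := hu N.d N.aff (t N.d)
    obtain ⟨τ, hτ⟩ := exists_valFam A F N.d f hX
    refine ⟨⟨H.post u N.d.left ((H.shr F N.d.left).symm τ), ⟨_, rfl⟩⟩, fun l => ?_⟩
    have e : IVal (o := N.d.left) ⟨H.post u N.d.left ((H.shr F N.d.left).symm τ), ⟨_, rfl⟩⟩ l =
        (u.hom.app l.ξ).app ⊤ (τ.1 l (oneO _ l.ξ)) := by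
      show (H.val (H.post u N.d.left ((H.shr F N.d.left).symm τ))).1 l (oneO _ l.ξ) = _
      rw [H.val_post]
      show (u.hom.app l.ξ).app ⊤ ((H.shr F N.d.left ((H.shr F N.d.left).symm τ)).1 l (oneO _ l.ξ)) = _
      rw [LinearEquiv.apply_symm_apply]
    rw [e, ← hf']
    exact (hτ l).post u
  choose τ hτ using htau
  have htaumap : ∀ (N N' : Node C π E) (m : N'.d ⟶ N.d), ΦI.res m.left (τ N) = τ N' := fun N N' m => by
    refine Subtype.ext (H.val_injective ?_)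
    show H.val ((homFlat H G).res m.left (τ N).1) = H.val (τ N').1
    rw [H.val_res]
    refine Subtype.ext (funext fun l => LinearMap.ext fun s => ?_)
    have key : IsVal A G N'.d (t N'.d) l.ξ l.α ((H.val (τ N).1).1 (l.map m.left) (oneO _ l.ξ)) := by
      intro o ho e
      have hag : π.map (l.α ≫ m.left) ≫ N.d.hom = π.map l.α ≫ N'.d.hom := by
        rw [π.toFunctor.map_comp, Category.assoc]
        exact congrArg (π.map l.α ≫ ·) (CostructuredArrow.w m)
      have h0 := hτ N (l.map m.left) o ho e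
      refine ⟨fun hx k hk => ?_, fun hx => ?_⟩
      · rw [← ht m, ← StMod.Mod.mapTop_comp]
        refine h0.1 (fun x => ?_) (k ≫ m) ?_
        · show _ ∈ A.Ag l.ξ.left l.ξ.hom (π.map (l.α ≫ m.left) ≫ N.d.hom)
          rw [hag]
          exact hx x
        · show k.left ≫ m.left = e.left ≫ l.α ≫ m.left
          rw [hk, Category.assoc]
      · refine h0.2 fun x => ?_
        show _ ∉ A.Ag l.ξ.left l.ξ.hom (π.map (l.α ≫ m.left) ≫ N.d.hom)
        rw [hag]
        exact hx x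
    haveI := l.aff
    have e1 : (H.val (τ N).1).1 (l.map m.left) (oneO _ l.ξ) = (H.val (τ N').1).1 l (oneO _ l.ξ) :=
      key.unique hX (hτ N' l)
    show (H.val (τ N).1).1 (l.map m.left) s = (H.val (τ N').1).1 l s
    rw [← smul_oneO s]
    exact (map_smul ((H.val (τ N).1).1 (l.map m.left)) _ _).trans ((congrArg (_ • ·) e1).trans
      (map_smul ((H.val (τ N').1).1 l) _ _).symm)
  choose zN hzN using fun N : Node C π E => (MultiExt.bijective_phiA (Φ := ΦI) hX N.a N.flat).surjective (τ N)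
  have hzmap : ∀ (N N' : Node C π E) (m : N'.d ⟶ N.d), PI.obj.mapTop m.left (zN N) = zN N' := fun N N' m => by
    apply (MultiExt.bijective_phiA (Φ := ΦI) hX N'.a N'.flat).injective
    exact (MultiExt.phiA_natural ΦI hX m.left N'.a N.a (zN N)).trans
      ((congrArg (ΦI.res m.left) (hzN N)).trans ((htaumap N N' m).trans (hzN N').symm))
  have hwd : ∀ (o : (fibCat π (etaOf E)).obj) (_ : IsAffine (sch 𝒳 o.left)) (N N' : Node C π E) (k : o ⟶ N.d)
      (k' : o ⟶ N'.d), PI.obj.mapTop k.left (zN N) = PI.obj.mapTop k'.left (zN N') := fun o ho N N' k k' => by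
    obtain ⟨J, D, hD⟩ := exists_refine_nodes hX C N N' k k'
    refine D.eq_of_mapTop PI fun l => ?_
    obtain ⟨N'', m, m', g, hg, hg'⟩ := hD l
    rw [← StMod.Mod.mapTop_comp, ← StMod.Mod.mapTop_comp, ← hg, ← hg', StMod.Mod.mapTop_comp, StMod.Mod.mapTop_comp,
      hzmap, hzmap]
  -- the section of the image
  let P : (fibCat π (etaOf E)).obj → Prop := fun o => ∃ N : Node C π E, Nonempty (o ⟶ N.d)
  let val : ∀ o : (fibCat π (etaOf E)).obj, P o → Γ(PI.obj.obj o.left, ⊤) := fun o hp =>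
    PI.obj.mapTop hp.choose_spec.some.left (zN hp.choose)
  have hval : ∀ (o : (fibCat π (etaOf E)).obj) (_ : IsAffine (sch 𝒳 o.left)) (hp : P o) (N : Node C π E)
      (k : o ⟶ N.d), val o hp = PI.obj.mapTop k.left (zN N) := fun o ho hp N k => hwd o ho _ _ _ _
  obtain ⟨ψ, hψ⟩ := exists_hom_of_local hf (StMod.OQ (fibCat π (etaOf E))) ((StMod.comapQ p).obj PI) P
    (fun e hp => ⟨hp.choose, ⟨e ≫ hp.choose_spec.some⟩⟩) (exists_cover_nodes hX C)
    (fun o ho hp =>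
      { toFun := fun s => (show Γ(sch 𝒳 o.left, ⊤) from s) • val o hp
        map_add' := fun a b => add_smul (show Γ(sch 𝒳 o.left, ⊤) from a) b (val o hp)
        map_smul' := fun r a => mul_smul (show Γ(sch 𝒳 o.left, ⊤) from r) a (val o hp) })
    (fun {o' o} h' h p' p e s => by
      refine (mapTop_fib (F := PI.obj) e _).trans ?_
      show PI.obj.mapTop e.left ((show Γ(sch 𝒳 o.left, ⊤) from s) • val o p) = _
      rw [StMod.Mod.mapTop_smul]
      refine congrArg₂ (· • ·) rfl ?_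
      rw [hval o' h' p' p.choose (e ≫ p.choose_spec.some)]
      show PI.obj.mapTop e.left (PI.obj.mapTop _ _) = PI.obj.mapTop (e.left ≫ p.choose_spec.some.left) _
      rw [StMod.Mod.mapTop_comp])
  let σ : ∀ o : (fibCat π (etaOf E)).obj, Γ(PI.obj.obj o.left, ⊤) := fun o => (ψ.app o).app ⊤ (oneO _ o)
  have hσ : ∀ {o' o : (fibCat π (etaOf E)).obj} (f : o' ⟶ o), PI.obj.mapTop f.left (σ o) = σ o' := fun {o' o} f => by
    refine (mapTop_fib (F := PI.obj) f (σ o)).symm.trans ?_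
    show ((StMod.comapQ p).obj PI).obj.mapTop f ((ψ.app o).app ⊤ (oneO _ o)) = (ψ.app o').app ⊤ (oneO _ o')
    rw [StMod.Mod.mapTop_app, oneO_mapTop]
  let τS : PI.obj.RelSect π (etaOf E) := ⟨fun ζ α => σ (CostructuredArrow.mk α), fun ζ' ζ φ α => hσ
    (o' := CostructuredArrow.mk (π.map φ ≫ α)) (o := CostructuredArrow.mk α) (CostructuredArrow.homMk φ rfl)⟩
  obtain ⟨sP, hsP⟩ := h v hsurj E ‹IsAffine E.obj.left.left› τS
  -- evaluation on the diagonal
  let ev : ∀ (o : (fibCat π (etaOf E)).obj), IsAffine (sch 𝒳 o.left) → C.Has o.left → Γ(F.obj.obj o, ⊤) :=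
    fun o ho hp => (H.val (phiA ΦF hX o.left hp.choose_spec.some (sP.1 o.left o.hom))).1
      ⟨o, 𝟙 o.left, ho⟩ (oneO _ o)
  have hev : ∀ {o' o : (fibCat π (etaOf E)).obj} (h' : IsAffine (sch 𝒳 o'.left)) (h : IsAffine (sch 𝒳 o.left))
      (p' : C.Has o'.left) (p : C.Has o.left) (e : o' ⟶ o), F.obj.mapTop e (ev o h p) = ev o' h' p' := by
    intro o' o h' h p' p e
    let τo := H.val (phiA ΦF hX o.left p.choose_spec.some (sP.1 o.left o.hom))
    refine (τo.2 (l' := ⟨o', e.left ≫ 𝟙 o.left, h'⟩) (l := ⟨o, 𝟙 o.left, h⟩) e rfl _).trans ?_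
    rw [oneO_mapTop]
    have e1 : PF.obj.mapTop e.left (sP.1 o.left o.hom) = sP.1 o'.left o'.hom := CohDesc.relSect_mapTop sP e
    have e2 := MultiExt.phiA_natural ΦF hX e.left p'.choose_spec.some p.choose_spec.some (sP.1 o.left o.hom)
    show τo.1 ⟨o', e.left ≫ 𝟙 o.left, h'⟩ (oneO _ o') =
      (H.val (phiA ΦF hX o'.left p'.choose_spec.some (sP.1 o'.left o'.hom))).1 ⟨o', 𝟙 o'.left, h'⟩ (oneO _ o')
    rw [← e1, e2, H.val_res]
    exact homFam_congr τo (by rw [Category.comp_id]; exact (Category.id_comp e.left).symm) h' _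
  obtain ⟨χ, hχ⟩ := exists_hom_of_local hf (StMod.OQ (fibCat π (etaOf E))) F (fun o => C.Has o.left)
    (fun e hp => hp.mono e.left)
    (fun o ho => by
      obtain ⟨n, D, hD⟩ := exists_cover_nodes hX C o ho
      exact ⟨n, D, fun j => (MChart.Has.of_map C (hD j).choose.a).mono (hD j).choose_spec.some.left⟩)
    (fun o ho hp =>
      { toFun := fun s => (show Γ(sch (fibCat π (etaOf E)) o, ⊤) from s) • ev o ho hp
        map_add' := fun a b => add_smul (show Γ(sch (fibCat π (etaOf E)) o, ⊤) from a) b (ev o ho hp)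
        map_smul' := fun r a => mul_smul (show Γ(sch (fibCat π (etaOf E)) o, ⊤) from r) a (ev o ho hp) })
    (fun {o' o} h' h p' p e s => by
      show F.obj.mapTop e ((show Γ(sch (fibCat π (etaOf E)) o, ⊤) from s) • ev o h p) = _
      rw [StMod.Mod.mapTop_smul, hev h' h p' p e]
      rfl)
  refine ⟨fun o => (χ.app o).app ⊤ (oneO _ o), fun {o' o} f => ?_, fun o => ?_⟩
  · rw [StMod.Mod.mapTop_app, oneO_mapTop]
  refine CohDesc.sect_ext hf G fun o' f ho' => ?_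
  rw [ht f, StMod.Mod.mapTop_app, StMod.Mod.mapTop_app, oneO_mapTop]
  obtain ⟨n, D, hD⟩ := exists_cover_nodes hX C o' ho'
  haveI : IsAffine (sch (fibCat π (etaOf E)) o') := ho'
  refine D.eq_of_mapTop G fun j => ?_
  obtain ⟨N, ⟨k⟩⟩ := hD j
  rw [ht, StMod.Mod.mapTop_app, StMod.Mod.mapTop_app, oneO_mapTop]
  haveI : IsAffine (sch 𝒳 (D.E j).left) := D.aff j
  have hp : C.Has (D.E j).left := (MChart.Has.of_map C N.a).mono k.left
  refine (congrArg ((u.hom.app (D.E j)).app ⊤) ((hχ _ (D.aff j) hp _).trans (one_smul _ _))).trans ?_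
  let b := hp.choose_spec.some
  let l₀ : AObj p (D.E j).left := ⟨D.E j, 𝟙 (D.E j).left, D.aff j⟩
  show (homPost u (D.E j).left (H.val (phiA ΦF hX (D.E j).left b (sP.1 (D.E j).left (D.E j).hom)))).1 l₀
    (oneO _ (D.E j)) = t (D.E j)
  rw [← H.val_post]
  show IVal (o := (D.E j).left)
    ((toImg η₀).app (D.E j).left (phiA ΦF hX (D.E j).left b (sP.1 (D.E j).left (D.E j).hom))) l₀ = _
  rw [← hv]
  have e1 : (v.hom.app (D.E j).left).app ⊤ (sP.1 (D.E j).left (D.E j).hom) = σ (D.E j) :=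
    congrArg (fun r : PI.obj.RelSect π (etaOf E) => r.1 (D.E j).left (D.E j).hom) hsP
  have e2 : σ (D.E j) = PI.obj.mapTop k.left (zN N) := by
    refine (hψ (D.E j) (D.aff j) ⟨N, ⟨k⟩⟩ _).trans ((one_smul _ _).trans ?_)
    exact hval _ (D.aff j) _ N k
  rw [e1, e2]
  show (H.val (phiA ΦI hX (D.E j).left b (PI.obj.mapTop k.left (zN N))).1).1 l₀ (oneO _ (D.E j)) = t (D.E j)
  rw [MultiExt.phiA_natural ΦI hX k.left b N.a, hzN]
  show (H.val ((homFlat H G).res k.left (τ N).1)).1 l₀ (oneO _ (D.E j)) = t (D.E j)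
  rw [H.val_res]
  show IVal (τ N) (l₀.map k.left) = t (D.E j)
  have h0 := (hτ N (l₀.map k.left) (D.E j) (D.aff j) (𝟙 (D.E j))).1 (fun x => ?_) k ?_
  · rw [StMod.Mod.mapTop_id] at h0
    exact h0.trans (ht k)
  · show _ ∈ A.Ag (D.E j).left (D.E j).hom (π.map (𝟙 (D.E j).left ≫ k.left) ≫ N.d.hom)
    rw [Category.id_comp, CostructuredArrow.w k]
    exact A.self _ _ _
  · show k.left = 𝟙 (D.E j).left ≫ 𝟙 (D.E j).left ≫ k.left
    rw [Category.id_comp, Category.id_comp]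

end Groth.Agent.H14.CohBC
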