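import Groth.Agent.H14.GenFam.Core
import Groth.Agent.H14.AffPush.Basic

/-!
Values and morphisms of direct images along affine morphisms.
-/

set_option autoImplicit false
set_option backward.isDefEq.respectTransparency false
set_option backward.isDefEq.respectTransparency.types false
set_option linter.style.haveILetI false

universe u

open CategoryTheory CategoryTheory.Limits AlgebraicGeometry Opposite TopologicalSpace
open StMod (sch bmap)
open Groth.Agent.Lib.AlgStack
open Groth.Agent.H14.ModDesc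
open Groth.Agent.H14.AffPush
open Groth.Agent.H14.GenFam (exists_hom_of_affine isAffine_up)

namespace Groth.Agent.H14.CohBC

variable {S : Scheme.{u}} {X Z : Over S} {𝒳 : AlgSt.Cat S} {π : 𝒳 ⥤ᵇ AlgSt.ofSch X} {g : Z ⟶ X}
  [IsAffineHom g.left] (hfib : FibCat.IsFibGrpd 𝒳.p)

/-- The restriction of the direct image is the restriction along the lifted morphism. -/
theorem mapTop_push (F : StMod.QCoh (cat π g)) {x' x : 𝒳.obj} (φ : x' ⟶ x)
    (s : Γ((pushQ hfib F).obj.obj x, ⊤)) :
    (pushQ hfib F).obj.mapTop φ s = F.obj.mapTop (upMap hfib φ) s := by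
  show (pushF hfib F.obj φ rfl).app ⊤ s = _
  refine (pushF_app hfib F.obj φ rfl ⊤ s).trans ?_
  show (F.obj.obj (up hfib x')).presheaf.map (𝟙 _) _ = _
  rw [CategoryTheory.Functor.map_id]
  rfl

/-- A morphism of modules gives a morphism of direct images. -/
theorem exists_pushMap {F G : StMod.QCoh (cat π g)} (u : F ⟶ G) :
    ∃ v : pushQ hfib F ⟶ pushQ hfib G, ∀ (o : 𝒳.obj) (_ : IsAffine (sch 𝒳 o))
      (s : Γ(F.obj.obj (up hfib o), ⊤)),
      (v.hom.app o).app ⊤ (show Γ((pushQ hfib F).obj.obj o, ⊤) from s) =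
        (show Γ((pushQ hfib G).obj.obj o, ⊤) from (u.hom.app (up hfib o)).app ⊤ s) := by
  obtain ⟨ψ, hψ⟩ := exists_hom_of_affine hfib (pushQ hfib F) (pushQ hfib G) (fun o _ =>
    { toFun := fun s => (show Γ((pushQ hfib G).obj.obj o, ⊤) from
        (u.hom.app (up hfib o)).app ⊤ (show Γ(F.obj.obj (up hfib o), ⊤) from s))
      map_add' := fun a b => map_add ((u.hom.app (up (π := π) (g := g) hfib o)).app ⊤).hom
        (show Γ(F.obj.obj (up hfib o), ⊤) from a) b
      map_smul' := fun r a => Scheme.Modules.Hom.app_smul (u.hom.app (up (π := π) (g := g) hfib o))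
        ((bmap 𝒳 (eps (π := π) (g := g) hfib o)).app ⊤ r) (show Γ(F.obj.obj (up hfib o), ⊤) from a) })
    fun {o' o} _ _ e t => by
      refine (mapTop_push hfib G e _).trans ?_
      refine (StMod.Mod.mapTop_app u.hom (upMap hfib e) _).trans ?_
      exact congrArg ((u.hom.app (up (π := π) (g := g) hfib o')).app ⊤) (mapTop_push hfib F e t).symm
  exact ⟨ObjectProperty.homMk ψ, fun o ho s => hψ o ho s⟩

/-- Surjectivity passes to the direct image. -/
theorem isSurj_pushMap [IsAffine Z.left] {F G : StMod.QCoh (cat π g)} (u : F ⟶ G) (hu : StMod.Mod.IsSurj u.hom)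
    (v : pushQ hfib F ⟶ pushQ hfib G)
    (hv : ∀ (o : 𝒳.obj) (_ : IsAffine (sch 𝒳 o)) (s : Γ(F.obj.obj (up hfib o), ⊤)),
      (v.hom.app o).app ⊤ (show Γ((pushQ hfib F).obj.obj o, ⊤) from s) =
        (show Γ((pushQ hfib G).obj.obj o, ⊤) from (u.hom.app (up hfib o)).app ⊤ s)) :
    StMod.Mod.IsSurj v.hom := fun o ho z => by
  haveI := ho
  obtain ⟨s, hs⟩ := hu (up hfib o) (isAffine_up (π := π) (g := g) hfib o) (show Γ(G.obj.obj (up hfib o), ⊤) from z)
  exact ⟨s, (hv o ho s).trans hs⟩

end Groth.Agent.H14.CohBC
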